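import Cfsg.Agent.InvChar68.Eight.Local
import Cfsg.Agent.BGUniq.PLocalBasic
import Cfsg.Prelude.Def_Transfer
import Cfsg.Agent.Lib.Thompson.Cores
import Cfsg.Agent.Lib.Thompson.PSolvable

/-!
# The automizer of an elementary abelian Sylow subgroup of order eight
-/

set_option autoImplicit false
set_option linter.unusedSectionVars false
set_option linter.style.haveILetI false

namespace Cfsg.Agent.InvChar68.Eight

open Subgroup

variable {S : Type*} [Group S] [Finite S]

/-- An automorphism of odd order fixing two involutions of the elementary abelian group of order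
eight is trivial. -/
theorem fix_two (h8 : Nat.card S = 8) (hsq : ∀ s : S, s * s = 1) {A : Subgroup (MulAut S)}
    (hA : Odd (Nat.card A)) {a : MulAut S} (ha : a ∈ A) {u w : S} (hu1 : u ≠ 1) (hw1 : w ≠ 1)
    (huw : u ≠ w) (hu : a u = u) (hw : a w = w) : a = 1 := by
  classical
  let F : Subgroup S :=
    { carrier := {s | a s = s}
      one_mem' := map_one a
      mul_mem' := fun {x y} hx hy => by
        show a (x * y) = x * y
        rw [map_mul, hx, hy]
      inv_mem' := fun {x} hx => by
        show a x⁻¹ = x⁻¹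
        rw [map_inv, hx] }
  have huw' : u * w ≠ 1 := fun h => huw (by
    rw [← inv_eq_of_mul_eq_one_left h, inv_eq_of_mul_eq_one_left (hsq w)])
  have h3 : 3 ≤ Nat.card F := by
    let g : Fin 3 → F := ![1, ⟨u, hu⟩, ⟨w, hw⟩]
    have hg : Function.Injective g := by
      intro i j e
      have e' := congrArg Subtype.val e
      fin_cases i <;> fin_cases j <;> simp [g] at e' ⊢ <;>
        first
          | exact hu1 e' | exact hu1 e'.symm | exact hw1 e' | exact hw1 e'.symm
          | exact huw e' | exact huw e'.symm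
    simpa using Nat.card_le_card_of_injective g hg
  have hsq2 : a * a = 1 := by
    have hd := F.card_subgroup_dvd_card
    rw [h8] at hd
    obtain ⟨j, hj, e⟩ := (Nat.dvd_prime_pow Nat.prime_two).mp (show Nat.card F ∣ 2 ^ 3 from hd)
    refine MulEquiv.ext fun s => ?_
    show a (a s) = s
    by_cases hs : s ∈ F
    · rw [show a s = s from hs, show a s = s from hs]
    have hidx : F.index = 2 := by
      have h := F.index_mul_card
      rw [h8, e] at h
      interval_cases j
      · omega
      · omega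
      · omega
      · exact absurd (Subgroup.eq_top_of_card_eq F (by rw [h8, e]; rfl) ▸ Subgroup.mem_top s) hs
    have has : a s ∉ F := fun h => hs (a.injective h)
    have he : s⁻¹ * a s ∈ F := by
      rw [Subgroup.mul_mem_iff_of_index_two hidx]
      simp [hs, has]
    rw [show a s = s * (s⁻¹ * a s) by group, map_mul, show a (s⁻¹ * a s) = s⁻¹ * a s from he]
    calc a s * (s⁻¹ * a s) = a s * (s * a s) := by rw [inv_eq_of_mul_eq_one_right (hsq s)]
      _ = a s * (a s * s) := by
          congr 1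
          have := hsq (s * a s)
          rw [← inv_eq_of_mul_eq_one_right this, mul_inv_rev, inv_eq_of_mul_eq_one_right (hsq (a s)),
            inv_eq_of_mul_eq_one_right (hsq s)]
      _ = s := by rw [← mul_assoc, hsq, one_mul]
  obtain ⟨j, hj⟩ := hA
  have h1 : a ^ (2 * j + 1) = 1 := by
    rw [← hj]
    exact congrArg Subtype.val (pow_card_eq_one' (x := (⟨a, ha⟩ : A)))
  rwa [pow_succ, pow_mul, pow_two, hsq2, one_pow, one_mul] at h1

/-- An odd order automorphism group of the elementary abelian group of order eight without fixed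
points is transitive on involutions, and its point stabilizers have order one or three. -/
theorem automizer_card (h8 : Nat.card S = 8) (hsq : ∀ s : S, s * s = 1) (A : Subgroup (MulAut S))
    (hA : Odd (Nat.card A)) (hfix : ∀ s : S, (∀ a ∈ A, a s = s) → s = 1) :
    (∀ s u : S, s ≠ 1 → u ≠ 1 → ∃ a ∈ A, a s = u) ∧
    ∀ t : S, t ≠ 1 → (Nat.card A = 7 ∧ Nat.card (MulAction.stabilizer A t) = 1) ∨
      (Nat.card A = 21 ∧ Nat.card (MulAction.stabilizer A t) = 3) := by
  classical
  haveI := Fintype.ofFinite A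
  haveI := Fintype.ofFinite S
  have hsm : ∀ (a : A) (s : S), a • s = (a : MulAut S) s := fun a s => rfl
  have hmul : ∀ s : S, Nat.card (MulAction.orbit A s) * Nat.card (MulAction.stabilizer A s) = Nat.card A := by
    intro s
    rw [Nat.card_eq_fintype_card, Nat.card_eq_fintype_card, Nat.card_eq_fintype_card]
    exact MulAction.card_orbit_mul_card_stabilizer_eq_card_group A s
  set o := fun s : S => (Finset.univ.filter fun x => x ∈ MulAction.orbit A s) with ho
  have hocard : ∀ s, (o s).card = Nat.card (MulAction.orbit A s) := fun s => by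
    rw [← Fintype.card_subtype, ← Nat.card_eq_fintype_card]
  have hodd : ∀ s, Odd (o s).card := fun s => by
    rw [hocard]; exact (Nat.odd_mul.mp (hmul s ▸ hA)).1
  have hsub : ∀ s, s ≠ 1 → o s ⊆ Finset.univ.erase 1 := by
    intro s hs x hx
    obtain ⟨a, rfl⟩ := (Finset.mem_filter.mp hx).2
    exact Finset.mem_erase.mpr ⟨fun h => hs ((a : MulAut S).injective (h.trans (map_one _).symm)),
      Finset.mem_univ _⟩
  have hthree : ∀ s, s ≠ 1 → 3 ≤ (o s).card := by
    intro s hs
    obtain ⟨j, hj⟩ := hodd s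
    rcases Nat.eq_zero_or_pos j with rfl | hj0
    · exfalso
      refine hs (hfix s fun a ha => ?_)
      obtain ⟨x, hx⟩ := Finset.card_eq_one.mp (show (o s).card = 1 by omega)
      have h1 : s ∈ o s := Finset.mem_filter.mpr ⟨Finset.mem_univ _, MulAction.mem_orbit_self s⟩
      have h2 : a s ∈ o s := Finset.mem_filter.mpr ⟨Finset.mem_univ _, ⟨⟨a, ha⟩, rfl⟩⟩
      rw [hx, Finset.mem_singleton] at h1 h2
      rw [h2, h1]
    · omega
  have hdisj : ∀ s u, u ∉ o s → Disjoint (o s) (o u) := by
    intro s u hu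
    rw [Finset.disjoint_left]
    intro x hx hx'
    refine hu (Finset.mem_filter.mpr ⟨Finset.mem_univ _, ?_⟩)
    rw [← MulAction.orbit_eq_iff.mpr (Finset.mem_filter.mp hx).2]
    exact MulAction.mem_orbit_symm.mp (Finset.mem_filter.mp hx').2
  have h7 : (Finset.univ.erase (1 : S)).card = 7 := by
    rw [Finset.card_erase_of_mem (Finset.mem_univ _), Finset.card_univ, ← Nat.card_eq_fintype_card, h8]
  have horb : ∀ s, s ≠ 1 → o s = Finset.univ.erase 1 := by
    intro s hs
    by_contra hne
    obtain ⟨u, hu, hu'⟩ := Finset.exists_of_ssubset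
      ((Finset.ssubset_iff_subset_ne).mpr ⟨hsub s hs, hne⟩)
    have hu1 := (Finset.mem_erase.mp hu).1
    have hd := hdisj s u hu'
    have hU : o s ∪ o u ⊆ Finset.univ.erase 1 := Finset.union_subset (hsub s hs) (hsub u hu1)
    have hc := Finset.card_le_card hU
    rw [Finset.card_union_of_disjoint hd, h7] at hc
    have := hthree s hs
    have := hthree u hu1
    obtain ⟨i, hi⟩ := hodd s
    obtain ⟨j, hj⟩ := hodd u
    have hlt : (o s ∪ o u).card < (Finset.univ.erase (1 : S)).card := by
      rw [Finset.card_union_of_disjoint hd, h7]; omega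
    obtain ⟨v, hv, hv'⟩ := Finset.exists_of_ssubset
      ((Finset.ssubset_iff_subset_ne).mpr ⟨hU, fun e => hlt.ne (congrArg Finset.card e)⟩)
    rw [Finset.mem_union, not_or] at hv'
    have hv1 := (Finset.mem_erase.mp hv).1
    have h9 := Finset.card_le_card (Finset.union_subset hU (hsub v hv1))
    rw [Finset.card_union_of_disjoint
      (Finset.disjoint_union_left.mpr ⟨hdisj s v hv'.1, hdisj u v hv'.2⟩),
      Finset.card_union_of_disjoint hd, h7] at h9
    have := hthree v hv1
    omega
  refine ⟨fun s u hs hu => ?_, fun t ht => ?_⟩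
  · have : u ∈ o s := by rw [horb s hs]; exact Finset.mem_erase.mpr ⟨hu, Finset.mem_univ _⟩
    obtain ⟨a, ha⟩ := (Finset.mem_filter.mp this).2
    exact ⟨a, a.2, ha⟩
  have ho7 : Nat.card (MulAction.orbit A t) = 7 := by rw [← hocard, horb t ht, h7]
  have hmulT := hmul t
  rw [ho7] at hmulT
  set St := MulAction.stabilizer A t with hSt
  have hStodd : Odd (Nat.card St) := (Nat.odd_mul.mp (hmulT ▸ hA)).2
  -- the stabilizer acts freely on the six other involutions
  set Y := (Finset.univ.erase (1 : S)).erase t with hY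
  have hY6 : Y.card = 6 := by
    rw [Finset.card_erase_of_mem (Finset.mem_erase.mpr ⟨ht, Finset.mem_univ _⟩), h7]
  have hfree : ∀ (g : St) (y : S), y ∈ Y → ((g : A) : MulAut S) y = y → g = 1 := by
    intro g y hy hgy
    simp only [hY, Finset.mem_erase] at hy
    have hgt : ((g : A) : MulAut S) t = t := g.2
    exact Subtype.ext (Subtype.ext (fix_two h8 hsq hA (g : A).2 hy.2.1 ht hy.1 hgy hgt))
  obtain ⟨w, hw⟩ := Finset.card_pos.mp (show 0 < Y.card by omega)
  let f : St → S := fun g => ((g : A) : MulAut S) w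
  have hf : Function.Injective f := by
    intro g g' e
    refine inv_mul_eq_one.mp (hfree (g⁻¹ * g') w hw ?_) |>.symm ▸ rfl
    show ((g : A) : MulAut S)⁻¹ (((g' : A) : MulAut S) w) = w
    rw [show ((g' : A) : MulAut S) w = ((g : A) : MulAut S) w from e.symm]
    exact MulEquiv.symm_apply_apply _ _
  haveI := Fintype.ofFinite St
  have himg : ∀ g : St, ∀ y ∈ Y, ((g : A) : MulAut S) y ∈ Y := by
    intro g y hy
    simp only [hY, Finset.mem_erase, Finset.mem_univ, and_true] at hy ⊢
    have hgt : ((g : A) : MulAut S) t = t := g.2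
    exact ⟨fun h => hy.1 (((g : A) : MulAut S).injective (h.trans hgt.symm)),
      fun h => hy.2 (((g : A) : MulAut S).injective (h.trans (map_one _).symm))⟩
  set O := Finset.univ.image f with hO
  have hOY : O ⊆ Y := fun x hx => by
    obtain ⟨g, -, rfl⟩ := Finset.mem_image.mp hx
    exact himg g w hw
  have hOcard : O.card = Nat.card St := by
    rw [Finset.card_image_of_injective _ hf, Finset.card_univ, Nat.card_eq_fintype_card]
  have hle := Finset.card_le_card hOY
  rw [hOcard, hY6] at hle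
  obtain ⟨j, hj⟩ := hStodd
  have hj2 : j ≤ 1 := by
    by_contra hgt
    have h5 : Nat.card St = 5 := by omega
    obtain ⟨y, hy⟩ := Finset.card_eq_one.mp (show (Y \ O).card = 1 by
      rw [Finset.card_sdiff_of_subset hOY, hY6, hOcard, h5])
    have hym : y ∈ Y \ O := hy ▸ Finset.mem_singleton_self y
    rw [Finset.mem_sdiff] at hym
    have hall : ∀ g : St, g = 1 := by
      intro g
      refine hfree g y hym.1 ?_
      by_cases hin : ((g : A) : MulAut S) y ∈ O
      · exfalso
        obtain ⟨g', -, hg'⟩ := Finset.mem_image.mp hin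
        refine hym.2 (Finset.mem_image.mpr ⟨g⁻¹ * g', Finset.mem_univ _, ?_⟩)
        show ((g : A) : MulAut S)⁻¹ (((g' : A) : MulAut S) w) = y
        rw [show ((g' : A) : MulAut S) w = ((g : A) : MulAut S) y from hg']
        exact MulEquiv.symm_apply_apply _ _
      · have : ((g : A) : MulAut S) y ∈ Y \ O := Finset.mem_sdiff.mpr ⟨himg g y hym.1, hin⟩
        rwa [hy, Finset.mem_singleton] at this
    haveI : Subsingleton St := ⟨fun a b => by rw [hall a, hall b]⟩
    have := Nat.card_of_subsingleton (1 : St)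
    omega
  rcases Nat.le_one_iff_eq_zero_or_eq_one.mp hj2 with rfl | rfl
  · exact Or.inl ⟨by omega, by omega⟩
  · exact Or.inr ⟨by omega, by omega⟩

variable {G : Type*} [Group G] [Finite G]

/-- The image of the normalizer in the automorphism group. -/
noncomputable abbrev aut (P : Subgroup G) : Subgroup (MulAut P) := P.normalizerMonoidHom.range

theorem card_aut (P : Subgroup G) :
    Nat.card (aut P) = (centralizer (P : Set G)).relIndex (normalizer (P : Set G)) := by
  rw [relIndex, ← normalizerMonoidHom_ker, index_ker]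

theorem aut_odd (P : Sylow 2 G) (hc : ∀ a ∈ (P : Subgroup G), ∀ b ∈ (P : Subgroup G), a * b = b * a) :
    Odd (Nat.card (aut (P : Subgroup G))) := by
  haveI : Fact (Nat.Prime 2) := ⟨Nat.prime_two⟩
  rw [card_aut, Nat.odd_iff, ← Nat.two_dvd_ne_zero]
  intro h
  have hle : (P : Subgroup G) ≤ centralizer ((P : Subgroup G) : Set G) := fun a ha =>
    mem_centralizer_iff.mpr fun b hb => hc b hb a ha
  have hCN : centralizer ((P : Subgroup G) : Set G) ≤ normalizer ((P : Subgroup G) : Set G) :=
    centralizer_le_normalizer _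
  refine P.not_dvd_index (h.trans ?_)
  rw [← relIndex_mul_index hle, ← relIndex_mul_index hCN]
  exact (dvd_mul_right _ _).mul_left _

/-- A simple non-abelian group moves every involution of an abelian Sylow subgroup. -/
theorem no_fixed_point [IsSimpleGroup G] (hG : ¬ IsMulCommutative G) (P : Sylow 2 G)
    (hc : ∀ a ∈ (P : Subgroup G), ∀ b ∈ (P : Subgroup G), a * b = b * a)
    (s : (P : Subgroup G)) (hs : ∀ a ∈ aut (P : Subgroup G), a s = s) : s = 1 := by
  haveI : Fact (Nat.Prime 2) := ⟨Nat.prime_two⟩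
  letI : CommGroup (P : Subgroup G) :=
    { (inferInstance : Group (P : Subgroup G)) with
      mul_comm := fun a b => Subtype.ext (hc a a.2 b b.2) }
  haveI : IsMulCommutative (P : Subgroup G) := ⟨⟨fun a b => Subtype.ext (hc a a.2 b b.2)⟩⟩
  by_contra hs1
  set V := MonoidHom.transfer (MonoidHom.id (P : Subgroup G)) with hV
  have key : ∀ (k : ℕ) (g₀ : G), g₀⁻¹ * (s : G) ^ k * g₀ ∈ (P : Subgroup G) →
      g₀⁻¹ * (s : G) ^ k * g₀ = (s : G) ^ k := by
    intro k g₀ hg
    obtain ⟨n, hn, e⟩ := P.conj_eq_normalizer_conj_of_mem ((s : G) ^ k) g₀ (pow_mem s.2 k) hg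
    rw [e]
    have hfix := hs _ (⟨⟨n⁻¹, inv_mem hn⟩, rfl⟩ : _ ∈ aut (P : Subgroup G))
    have h1 : n⁻¹ * (s : G) * n⁻¹⁻¹ = (s : G) := congrArg Subtype.val hfix
    rw [inv_inv] at h1
    calc n⁻¹ * (s : G) ^ k * n = (n⁻¹ * (s : G) * n) ^ k := by
          rw [show n⁻¹ * (s : G) * n = n⁻¹ * (s : G) * n⁻¹⁻¹ by rw [inv_inv], conj_pow, inv_inv]
      _ = (s : G) ^ k := by rw [h1]
  have hVs : V (s : G) = s ^ (P : Subgroup G).index := by
    rw [hV, MonoidHom.transfer_eq_pow _ (s : G) key]
    exact Subtype.ext rfl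
  have hne : V (s : G) ≠ 1 := by
    rw [hVs]
    intro h
    obtain ⟨j, hj⟩ := IsPGroup.iff_orderOf.mp P.isPGroup' s
    have h1 := orderOf_dvd_of_pow_eq_one h
    rw [hj] at h1
    rcases Nat.eq_zero_or_pos j with rfl | hj0
    · exact hs1 (orderOf_eq_one_iff.mp hj)
    · exact P.not_dvd_index ((dvd_pow_self 2 hj0.ne').trans h1)
  rcases V.normal_ker.eq_bot_or_eq_top with h | h
  · refine hG ⟨⟨fun a b => (MonoidHom.ker_eq_bot_iff V).mp h ?_⟩⟩
    rw [map_mul, map_mul, mul_comm]
  · exact hne (MonoidHom.mem_ker.mp (h ▸ mem_top (s : G)))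

/-- The centralizer of an involution of the Sylow subgroup whose stabilizer has order three. -/
theorem exists_loc (P : Sylow 2 G) (h8 : Nat.card (P : Subgroup G) = 8)
    (hc : ∀ a ∈ (P : Subgroup G), ∀ b ∈ (P : Subgroup G), a * b = b * a)
    (hsq : ∀ a ∈ (P : Subgroup G), a * a = 1)
    (t : (P : Subgroup G)) (ht : t ≠ 1)
    (hst : Nat.card (MulAction.stabilizer (aut (P : Subgroup G)) t) = 3)
    (hsol : Group.IsSolvable (centralizer ({(t : G)} : Set G))) :
    ∃ D : Loc (centralizer ({(t : G)} : Set G)), (D.t : G) = t ∧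
      D.K = Cfsg.pPrimeCore 2 (centralizer ({(t : G)} : Set G)) ∧
      D.T = (P : Subgroup G).subgroupOf (centralizer ({(t : G)} : Set G)) := by
  classical
  haveI : Fact (Nat.Prime 2) := ⟨Nat.prime_two⟩
  set C := centralizer ({(t : G)} : Set G) with hC
  have hPC : (P : Subgroup G) ≤ C := fun a ha => mem_centralizer_singleton_iff.mpr (hc a ha t t.2)
  let TS : Sylow 2 C := P.subtype hPC
  have hTS : (TS : Subgroup C) = (P : Subgroup G).subgroupOf C := rfl
  set K := Cfsg.pPrimeCore 2 C with hK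
  set π := QuotientGroup.mk' K with hπ
  have hπs : Function.Surjective π := QuotientGroup.mk'_surjective K
  haveI : Group.IsSolvable C := hsol
  have hps : Cfsg.IsPSolvable 2 (C ⧸ K) :=
    Thompson.isPSolvable_quotient _ (BGUniq.isPSolvable_of_isSolvable' 2 C)
  have hHH := Thompson.centralizer_pCore_le hps Thompson.pPrimeCore_quotient_pPrimeCore
  let TQ : Sylow 2 (C ⧸ K) := TS.mapSurjective hπs
  have hTQ : (TQ : Subgroup (C ⧸ K)) = (TS : Subgroup C).map π := rfl
  have hQ : (TQ : Subgroup (C ⧸ K)) ≤ Cfsg.pCore 2 (C ⧸ K) := by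
    refine le_trans (fun x hx => mem_centralizer_iff.mpr fun y hy => ?_) hHH
    have hy' := Thompson.pCore_le_sylow TQ hy
    rw [hTQ] at hx hy'
    obtain ⟨a, ha, rfl⟩ := hx
    obtain ⟨b, hb, rfl⟩ := hy'
    rw [← map_mul, ← map_mul]
    exact congrArg π (Subtype.ext (hc _ hb _ ha))
  have hQeq : Cfsg.pCore 2 (C ⧸ K) = (TQ : Subgroup (C ⧸ K)) :=
    le_antisymm (Thompson.pCore_le_sylow TQ) hQ
  set T := (P : Subgroup G).subgroupOf C with hT
  have hL : T ⊔ K = (Cfsg.pCore 2 (C ⧸ K)).comap π := by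
    rw [hQeq, hTQ, hTS, comap_map_eq, hπ, QuotientGroup.ker_mk']
  haveI hLn : (T ⊔ K).Normal := by rw [hL]; infer_instance
  have hKodd : Odd (Nat.card K) := by
    rw [Nat.odd_iff, ← Nat.two_dvd_ne_zero, ← Nat.prime_two.coprime_iff_not_dvd]
    exact Thompson.card_pPrimeCore_coprime.symm
  have htC : (t : G) ∈ C := hPC t.2
  have hcentT : ∀ x : C, (∀ s ∈ T, x * s = s * x) → x ∈ T ⊔ K := by
    intro x hx
    rw [hL, mem_comap]
    refine hHH (mem_centralizer_iff.mpr fun y hy => ?_)
    have hy' : y ∈ (TQ : Subgroup (C ⧸ K)) := hQeq ▸ hy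
    rw [hTQ] at hy'
    obtain ⟨b, hb, rfl⟩ := hy'
    rw [← map_mul, ← map_mul, hx b hb]
  have hLnorm : ∀ x ∈ T ⊔ K, x ∈ normalizer (T : Set C) → ∀ s ∈ T, x * s = s * x := by
    intro x hx hn s hs
    obtain ⟨a, ha, k, hk, rfl⟩ := mem_sup_of_normal_right.mp hx
    have h1 := (mem_normalizer_iff.mp hn s).mp hs
    have has : a * s = s * a := Subtype.ext (hc _ ha _ hs)
    have h2 : k * s * k⁻¹ ∈ T := by
      have := T.mul_mem (T.mul_mem (T.inv_mem ha) h1) ha
      convert this using 1; group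
    have h3 : k * s * k⁻¹ * s⁻¹ ∈ T ⊓ K := by
      refine ⟨T.mul_mem h2 (T.inv_mem hs), ?_⟩
      rw [mul_assoc, mul_assoc, ← mul_assoc s]
      exact K.mul_mem hk ((inferInstance : K.Normal).conj_mem _ (K.inv_mem hk) s)
    have hbot : T ⊓ K = ⊥ := (disjoint_of_coprime_natCard (by
      rw [hT, Nat.card_congr (subgroupOfEquivOfLe hPC).toEquiv, h8]
      exact Nat.Coprime.pow_left 3 (Nat.coprime_two_left.mpr hKodd))).eq_bot
    rw [hbot, mem_bot, mul_inv_eq_one, mul_inv_eq_iff_eq_mul] at h3
    rw [mul_assoc, h3, ← mul_assoc, has, mul_assoc]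
  -- elements of the normalizer of `T` in `C` and the stabilizer
  set A := aut (P : Subgroup G) with hA
  have toStab : ∀ x : C, x ∈ normalizer (T : Set C) → ∃ g : MulAction.stabilizer A t,
      ∀ s : (P : Subgroup G), ((((g : A) : MulAut (P : Subgroup G)) s : (P : Subgroup G)) : G) = (x : G) * s * (x : G)⁻¹ := by
    intro x hx
    have hxN : (x : G) ∈ normalizer ((P : Subgroup G) : Set G) := by
      rw [mem_normalizer_iff]
      intro a
      constructor
      · intro ha
        exact (mem_normalizer_iff.mp hx ⟨a, hPC ha⟩).mp ha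
      · intro ha
        have haC : a ∈ C := by
          have h1 := C.mul_mem (C.mul_mem (C.inv_mem x.2) (hPC ha)) x.2
          convert h1 using 1; group
        exact (mem_normalizer_iff.mp hx ⟨a, haC⟩).mpr ha
    refine ⟨⟨⟨(P : Subgroup G).normalizerMonoidHom ⟨x, hxN⟩, ⟨_, rfl⟩⟩, ?_⟩, fun s => rfl⟩
    show (P : Subgroup G).normalizerMonoidHom ⟨x, hxN⟩ t = t
    apply Subtype.ext
    show (x : G) * t * (x : G)⁻¹ = t
    rw [mem_centralizer_singleton_iff.mp x.2, mul_inv_cancel_right]
  -- an element inducing an automorphism of order three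
  obtain ⟨g₀, hg₀⟩ : ∃ g : MulAction.stabilizer A t, g ≠ 1 := by
    by_contra! h
    haveI : Subsingleton (MulAction.stabilizer A t) := ⟨fun a b => by rw [h a, h b]⟩
    have := Nat.card_of_subsingleton (1 : MulAction.stabilizer A t)
    omega
  obtain ⟨⟨n, hn⟩, hne⟩ := (g₀ : A).2
  have hn' : ∀ s : (P : Subgroup G), ((((g₀ : A) : MulAut (P : Subgroup G)) s : (P : Subgroup G)) : G) =
      n * s * n⁻¹ := fun s => by rw [← hne]; rfl
  have hgt : ((g₀ : A) : MulAut (P : Subgroup G)) t = t := g₀.2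
  have hnC : n ∈ C := by
    rw [hC, mem_centralizer_singleton_iff]
    have h := hn' t
    rw [hgt] at h
    exact (eq_mul_inv_iff_mul_eq.mp h).symm
  set h₀ : C := ⟨n, hnC⟩ with hh₀
  have hh₀T : ∀ s ∈ T, h₀ * s * h₀⁻¹ ∈ T := fun s hs => (mem_normalizer_iff.mp hn (s : G)).mp hs
  have hh₀N : h₀ ∈ normalizer (T : Set C) := mem_normalizer_iff.mpr fun a =>
    ⟨hh₀T a, fun ha => (mem_normalizer_iff.mp hn (a : G)).mpr ha⟩
  have hfix : ∀ s ∈ T, h₀ * s * h₀⁻¹ = s → s = 1 ∨ s = ⟨t, htC⟩ := by
    intro s hs he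
    by_contra hne'
    rw [not_or] at hne'
    set s' : (P : Subgroup G) := ⟨s, hs⟩ with hs'
    have h1 : ((g₀ : A) : MulAut (P : Subgroup G)) s' = s' :=
      Subtype.ext ((hn' s').trans (congrArg Subtype.val he))
    refine hg₀ (Subtype.ext (Subtype.ext (fix_two h8 (fun a => Subtype.ext (hsq a a.2))
      (aut_odd P hc) (g₀ : A).2 (u := s') (w := t) ?_ ht ?_ h1 hgt)))
    · exact fun h => hne'.1 (Subtype.ext (by simpa [hs'] using congrArg Subtype.val h))
    · exact fun h => hne'.2 (Subtype.ext (by simpa [hs'] using congrArg Subtype.val h))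
  have hh₀L : h₀ ∉ T ⊔ K := by
    intro h
    refine hg₀ (Subtype.ext (Subtype.ext (MulEquiv.ext fun s => Subtype.ext ?_)))
    show ((((g₀ : A) : MulAut (P : Subgroup G)) s : (P : Subgroup G)) : G) = s
    rw [hn' s]
    have := congrArg Subtype.val (hLnorm h₀ h hh₀N ⟨s, hPC s.2⟩ s.2)
    exact mul_inv_eq_iff_eq_mul.mpr this
  -- index three
  have hcover : ∀ x : C, ∃ j : ℕ, j < 3 ∧ x * (h₀ ^ j)⁻¹ ∈ T ⊔ K := by
    intro x
    obtain ⟨y, hy, l, hl, rfl⟩ : ∃ y ∈ normalizer (T : Set C), ∃ l ∈ T ⊔ K, x = y * l := by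
      have hfr : x ∈ normalizer (T : Set C) ⊔ (T ⊔ K) := by
        let TL : Sylow 2 (T ⊔ K : Subgroup C) := TS.subtype (le_sup_left (b := K))
        have h := Sylow.normalizer_sup_eq_top TL
        have e : (TL : Subgroup (T ⊔ K : Subgroup C)).map (T ⊔ K).subtype = T := by
          show (T.subgroupOf (T ⊔ K)).map _ = T
          rw [map_subgroupOf_eq_of_le le_sup_left]
        rw [e] at h
        rw [h]; exact mem_top x
      obtain ⟨y, hy, l, hl, e⟩ := mem_sup_of_normal_right.mp hfr
      exact ⟨y, hy, l, hl, e.symm⟩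
    obtain ⟨g, hg⟩ := toStab y hy
    have hgen : g ∈ zpowers g₀ := by
      haveI : Fact (Nat.Prime 3) := ⟨Nat.prime_three⟩
      exact mem_zpowers_of_prime_card hst hg₀
    obtain ⟨j, hj⟩ := mem_powers_iff_mem_zpowers.mpr hgen
    refine ⟨j % 3, Nat.mod_lt _ (by norm_num), ?_⟩
    have hj' : g₀ ^ (j % 3) = g := by
      rw [← hj]
      exact (pow_eq_pow_mod j (hst ▸ pow_card_eq_one')).symm
    have hpow : ∀ (i : ℕ) (s : (P : Subgroup G)),
        (((((g₀ ^ i : MulAction.stabilizer A t) : A) : MulAut (P : Subgroup G)) s : (P : Subgroup G)) : G) = n ^ i * s * (n ^ i)⁻¹ := by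
      intro i
      induction i with
      | zero => intro s; simp
      | succ i ih =>
        intro s
        rw [pow_succ' g₀]
        show ((((g₀ : A) : MulAut (P : Subgroup G)) (((((g₀ ^ i : MulAction.stabilizer A t) : A)) :
          MulAut (P : Subgroup G)) s) : (P : Subgroup G)) : G) = _
        rw [hn', ih, pow_succ']
        group
    have hmid : y * (h₀ ^ (j % 3))⁻¹ ∈ T ⊔ K := by
      have hN : h₀ ^ (j % 3) ∈ normalizer (T : Set C) := pow_mem hh₀N _
      have key : ∀ s ∈ T, (h₀ ^ (j % 3))⁻¹ * y * s = s * ((h₀ ^ (j % 3))⁻¹ * y) := by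
        intro s hs
        have e1 := hg ⟨s, hs⟩
        rw [← hj', hpow] at e1
        apply Subtype.ext
        simp only [coe_mul, InvMemClass.coe_inv, SubmonoidClass.coe_pow, hh₀]
        have e2 : (y : G) * s = n ^ (j % 3) * s * (n ^ (j % 3))⁻¹ * y := by
          rw [e1]; group
        rw [mul_assoc, e2]; group
      have := hcentT _ key
      have h2 := hLn.conj_mem _ this (h₀ ^ (j % 3))
      convert h2 using 1; group
    rw [show y * l * (h₀ ^ (j % 3))⁻¹ = y * (h₀ ^ (j % 3))⁻¹ * (h₀ ^ (j % 3) * l * (h₀ ^ (j % 3))⁻¹) by group]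
    exact mul_mem hmid (hLn.conj_mem l hl _)
  have hidx : (T ⊔ K).index = 3 := by
    have hle : Nat.card (C ⧸ (T ⊔ K)) ≤ 3 := by
      have hsurj : Function.Surjective (fun j : Fin 3 => ((h₀ ^ (j : ℕ) : C) : C ⧸ (T ⊔ K))) := by
        intro q
        obtain ⟨x, rfl⟩ := QuotientGroup.mk_surjective q
        obtain ⟨j, hj, hx⟩ := hcover x
        refine ⟨⟨j, hj⟩, ?_⟩
        show ((h₀ ^ j : C) : C ⧸ (T ⊔ K)) = x
        rw [eq_comm, ← mul_inv_eq_one, ← QuotientGroup.mk_inv, ← QuotientGroup.mk_mul, QuotientGroup.eq_one_iff]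
        exact hx
      simpa using Nat.card_le_card_of_surjective _ hsurj
    have hodd : ¬ 2 ∣ (T ⊔ K).index := fun h =>
      TS.not_dvd_index (h.trans (Subgroup.index_dvd_of_le (hTS ▸ le_sup_left)))
    have hne1 : (T ⊔ K).index ≠ 1 := fun h => hh₀L (by rw [index_eq_one.mp h]; exact mem_top _)
    have hpos : (T ⊔ K).index ≠ 0 := Subgroup.index_ne_zero_of_finite
    rw [← index_eq_card] at hle
    omega
  refine ⟨{
    t := ⟨t, htC⟩, T := T, K := K, h₀ := h₀
    Knormal := inferInstance, Kodd := hKodd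
    Tcard := by rw [hT, Nat.card_congr (subgroupOfEquivOfLe hPC).toEquiv, h8]
    Tcomm := fun a ha b hb => Subtype.ext (hc _ ha _ hb)
    Tsq := fun a ha => Subtype.ext (hsq _ ha)
    tT := t.2
    t1 := fun h => ht (Subtype.ext (by simpa using congrArg Subtype.val h))
    tZ := fun h => Subtype.ext (mem_centralizer_singleton_iff.mp h.2)
    Lnormal := hLn, Lindex := hidx, h₀L := hh₀L, h₀T := hh₀T, hfix := hfix }, rfl, rfl, rfl⟩

end Cfsg.Agent.InvChar68.Eight
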