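import Mathlib

/-!
# The combinatorial contradiction for three exceptional generalized characters
-/

set_option autoImplicit false

namespace Cfsg.Agent.InvChar68.Eight

open Finset

variable {I : Type*} [Fintype I]

/-- `1` and three characters: the hypotheses extracted from the section of an involution. -/
structure Config (I : Type*) [Fintype I] where
  c : Fin 3 → I → ℤ
  d : I → ℤ
  one : I
  dpos : ∀ i, 0 < d i
  done : d one = 1
  gram : ∀ k l, ∑ i, c k i * c l i = if k = l then 4 else 2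
  cone : ∀ k, c k one = if k = 0 then 1 else 0
  deg : ∀ k, ∑ i, c k i * d i = 0
  eqn : ∑ i, (((c 0 i + c 1 i + c 2 i) ^ 2 * (c 0 i - c 1 i) : ℤ) : ℚ) / d i = 0
  lt : ∀ i, i ≠ one → ∀ k, c k i ≠ 0 → 1 < d i ∧ c 0 i + c 1 i + c 2 i ≠ d i
  dvd : ∀ i, i ≠ one → ∀ k, c k i ≠ 0 → 8 ∣ d i + 7 * (c 0 i + c 1 i + c 2 i) ∧
    0 ≤ d i + 7 * (c 0 i + c 1 i + c 2 i)

namespace Config

variable (D : Config I)

open scoped Classical in
noncomputable def supp (k : Fin 3) : Finset I := univ.filter fun i => D.c k i ≠ 0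

theorem mem_supp {k : Fin 3} {i : I} : i ∈ D.supp k ↔ D.c k i ≠ 0 := by simp [supp]

theorem sq_eq_one (k : Fin 3) {i : I} (hi : D.c k i ≠ 0) : D.c k i = 1 ∨ D.c k i = -1 := by
  classical
  have h4 : ∑ j, D.c k j * D.c k j = 4 := by simpa using D.gram k k
  have hle : D.c k i * D.c k i ≤ 4 := h4 ▸ single_le_sum (f := fun j => D.c k j * D.c k j)
    (fun j _ => mul_self_nonneg _) (mem_univ i)
  by_contra hne
  have h2 : D.c k i = 2 ∨ D.c k i = -2 := by
    have h5 : -2 ≤ D.c k i := by nlinarith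
    have h6 : D.c k i ≤ 2 := by nlinarith
    omega
  have hzero : ∀ j, j ≠ i → D.c k j = 0 := by
    intro j hj
    have h7 : D.c k i * D.c k i + D.c k j * D.c k j ≤ 4 := by
      calc _ = ∑ l ∈ {i, j}, D.c k l * D.c k l := by rw [sum_pair (Ne.symm hj)]
        _ ≤ ∑ l, D.c k l * D.c k l :=
            sum_le_sum_of_subset_of_nonneg (subset_univ _) fun l _ _ => mul_self_nonneg _
        _ = 4 := h4
    rcases h2 with h | h <;> rw [h] at h7 <;>
      exact mul_self_eq_zero.mp (le_antisymm (by linarith) (mul_self_nonneg _))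
  have hd := D.deg k
  rw [sum_eq_single i (fun j _ hj => by rw [hzero j hj, zero_mul]) (fun h => absurd (mem_univ i) h)]
    at hd
  rcases mul_eq_zero.mp hd with h | h
  · exact hi h
  · exact (D.dpos i).ne' h

theorem card_supp (k : Fin 3) : (D.supp k).card = 4 := by
  classical
  have h4 : ∑ j, D.c k j * D.c k j = 4 := by simpa using D.gram k k
  rw [← sum_subset (subset_univ (D.supp k))
    (fun j _ hj => by rw [mem_supp, not_not] at hj; rw [hj, zero_mul]),
    sum_congr rfl (g := fun _ => (1 : ℤ)) (fun j hj => by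
      rcases D.sq_eq_one k (D.mem_supp.mp hj) with h | h <;> simp [h])] at h4
  exact_mod_cast (show ((D.supp k).card : ℤ) = 4 by simpa using h4)

theorem one_mem : D.one ∈ D.supp 0 := by rw [mem_supp, D.cone]; simp

theorem one_notMem {k : Fin 3} (hk : k ≠ 0) : D.one ∉ D.supp k := by
  rw [mem_supp, D.cone, if_neg hk]; simp

/-- The first support meets each of the others in two points with equal values. -/
theorem meet_zero [DecidableEq I] {k : Fin 3} (hk : k ≠ 0) :
    ∃ p q r, p ≠ q ∧ p ≠ r ∧ q ≠ r ∧ p ≠ D.one ∧ q ≠ D.one ∧ r ≠ D.one ∧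
      D.supp 0 = {D.one, p, q, r} ∧ D.supp 0 ∩ D.supp k = {p, q} ∧
      D.c k p = D.c 0 p ∧ D.c k q = D.c 0 q := by
  have hsum : ∑ i ∈ D.supp 0 ∩ D.supp k, D.c 0 i * D.c k i = 2 := by
    rw [sum_subset (subset_univ _) (fun i _ hi => ?_)]
    · rw [D.gram, if_neg (Ne.symm hk)]
    · simp only [mem_inter, mem_supp, not_and, not_not] at hi
      by_cases h : D.c 0 i = 0
      · rw [h, zero_mul]
      · rw [hi h, mul_zero]
  have hterm : ∀ i ∈ D.supp 0 ∩ D.supp k,
      D.c 0 i * D.c k i = 1 ∨ D.c 0 i * D.c k i = -1 := by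
    intro i hi
    rw [mem_inter, mem_supp, mem_supp] at hi
    rcases D.sq_eq_one 0 hi.1 with h | h <;> rcases D.sq_eq_one k hi.2 with h' | h' <;>
      simp [h, h']
  have hsub : D.supp 0 ∩ D.supp k ⊆ (D.supp 0).erase D.one := fun i hi => by
    rw [mem_inter] at hi
    exact mem_erase.mpr ⟨fun h => D.one_notMem hk (h ▸ hi.2), hi.1⟩
  have hle : (D.supp 0 ∩ D.supp k).card ≤ 3 :=
    (card_le_card hsub).trans_eq (by rw [card_erase_of_mem D.one_mem, D.card_supp])
  have h2 : (D.supp 0 ∩ D.supp k).card = 2 := by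
    have hub : (2 : ℤ) ≤ (D.supp 0 ∩ D.supp k).card := by
      rw [← hsum]
      refine (sum_le_card_nsmul _ _ (1 : ℤ) fun i hi => ?_).trans (by simp)
      rcases hterm i hi with h | h <;> omega
    by_contra hne
    have h3 : (D.supp 0 ∩ D.supp k).card = 3 := by omega
    obtain ⟨a, b, e, hab, hae, hbe, he⟩ := card_eq_three.mp h3
    rw [he] at hsum hterm
    rw [sum_insert (by simp [hab, hae]), sum_pair hbe] at hsum
    have := hterm a (by simp)
    have := hterm b (by simp)
    have := hterm e (by simp)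
    omega
  obtain ⟨p, q, hpq, hpq'⟩ := card_eq_two.mp h2
  rw [hpq'] at hsum hterm hsub
  rw [sum_pair hpq] at hsum
  have hp := hsub (mem_insert_self p {q})
  have hq := hsub (mem_insert_of_mem (mem_singleton_self q))
  have hrest : (((D.supp 0).erase D.one) \ {p, q}).card = 1 := by
    rw [card_sdiff_of_subset hsub, card_erase_of_mem D.one_mem, D.card_supp, card_pair hpq]
  obtain ⟨r, hr⟩ := card_eq_one.mp hrest
  have hr' : r ∈ ((D.supp 0).erase D.one) \ {p, q} := hr ▸ mem_singleton_self r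
  simp only [mem_sdiff, mem_erase, mem_insert, mem_singleton, not_or] at hr'
  refine ⟨p, q, r, hpq, Ne.symm hr'.2.1, Ne.symm hr'.2.2, (mem_erase.mp hp).1, (mem_erase.mp hq).1,
    hr'.1.1, ?_, hpq', ?_, ?_⟩
  · symm
    apply eq_of_subset_of_card_le
    · intro i hi
      simp only [mem_insert, mem_singleton] at hi
      rcases hi with rfl | rfl | rfl | rfl
      · exact D.one_mem
      · exact (mem_erase.mp hp).2
      · exact (mem_erase.mp hq).2
      · exact hr'.1.2
    · rw [D.card_supp, card_insert_of_notMem, card_insert_of_notMem, card_pair]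
      · exact Ne.symm hr'.2.2
      · simp [hpq, Ne.symm hr'.2.1]
      · simp [Ne.symm (mem_erase.mp hp).1, Ne.symm (mem_erase.mp hq).1, Ne.symm hr'.1.1]
  · have h := hterm p (by simp)
    have h' := hterm q (by simp)
    rcases D.sq_eq_one 0 (D.mem_supp.mp (mem_erase.mp hp).2) with e | e <;> rw [e] at h hsum ⊢ <;>
      omega
  · have h := hterm p (by simp)
    have h' := hterm q (by simp)
    rcases D.sq_eq_one 0 (D.mem_supp.mp (mem_erase.mp hq).2) with e | e <;> rw [e] at h' hsum ⊢ <;>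
      omega

/-- Signed degrees with a harmonic relation force a linear character. -/
theorem no_unit_relation {R X Y : ℤ} (hR : 1 < |R|) (hX : 1 < |X|) (hY : 1 < |Y|)
    (hdeg : 1 + R = X + Y) (heq : (1 : ℚ) + (R : ℚ)⁻¹ - (X : ℚ)⁻¹ - (Y : ℚ)⁻¹ = 0) : False := by
  have hR0 : (R : ℚ) ≠ 0 := Int.cast_ne_zero.mpr (abs_pos.mp (zero_lt_one.trans hR))
  have hX0 : (X : ℚ) ≠ 0 := Int.cast_ne_zero.mpr (abs_pos.mp (zero_lt_one.trans hX))
  have hY0 : (Y : ℚ) ≠ 0 := Int.cast_ne_zero.mpr (abs_pos.mp (zero_lt_one.trans hY))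
  field_simp at heq
  have h : (1 + R) * (X * Y) = R * (X + Y) := by
    have h' : ((1 + R : ℤ) : ℚ) * (X * Y) = (R : ℚ) * (X + Y) := by push_cast; linarith
    exact_mod_cast h'
  rw [← hdeg, mul_comm R] at h
  rcases mul_eq_mul_left_iff.mp h with h1 | h1
  · have : (X - 1) * (Y - 1) = 0 := by rw [sub_mul, mul_sub]; omega
    rcases mul_eq_zero.mp this with h2 | h2
    · rw [sub_eq_zero.mp h2] at hX; simp at hX
    · rw [sub_eq_zero.mp h2] at hY; simp at hY
  · rw [show R = -1 by omega] at hR; simp at hR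

theorem inv_cast_mul {s d : ℤ} (hs : s = 1 ∨ s = -1) : ((s * d : ℤ) : ℚ)⁻¹ = (s : ℚ) / d := by
  rcases hs with rfl | rfl <;> simp [neg_div]

theorem abs_signed {s d : ℤ} (hs : s = 1 ∨ s = -1) (hd : 1 < d) : 1 < |s * d| := by
  rcases hs with rfl | rfl <;> simp [abs_of_pos (zero_lt_one.trans hd), hd]

theorem not_meet_other [DecidableEq I] {p q r x y : I} (_hpr : p ≠ r) (hxy : x ≠ y)
    (hone : ∀ i ∈ ({p, q, r, x, y} : Finset I), i ≠ D.one)
    (h0 : D.supp 0 = {D.one, p, q, r}) (h1 : D.supp 1 = {p, q, x, y})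
    (hx : x ∉ D.supp 0) (hy : y ∉ D.supp 0) (hr : r ∉ D.supp 1)
    (h1p : D.c 1 p = D.c 0 p) (h1q : D.c 1 q = D.c 0 q)
    (h2r : D.c 2 r = D.c 0 r) (h2x : D.c 2 x = D.c 1 x) (h2y : D.c 2 y = 0) : False := by
  classical
  simp only [mem_insert, mem_singleton, forall_eq_or_imp, forall_eq] at hone
  obtain ⟨hp1, hq1, hr1, hx1, hy1⟩ := hone
  have cx : D.c 1 x ≠ 0 := D.mem_supp.mp (by rw [h1]; simp)
  have cy : D.c 1 y ≠ 0 := D.mem_supp.mp (by rw [h1]; simp)
  have cr : D.c 0 r ≠ 0 := D.mem_supp.mp (by rw [h0]; simp)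
  rw [mem_supp, not_not] at hx hy hr
  have hxr : x ≠ r := fun h => cr (h ▸ hx)
  have hyr : y ≠ r := fun h => cr (h ▸ hy)
  have he := D.eqn
  rw [← sum_subset (s₁ := {D.one, r, x, y}) (subset_univ _) (fun i _ hi => ?_),
    sum_insert (by simp [Ne.symm hr1, Ne.symm hx1, Ne.symm hy1]),
    sum_insert (by simp [Ne.symm hxr, Ne.symm hyr]), sum_pair hxy] at he
  · simp only [D.cone, D.done, hx, hy, hr, h2r, h2x, h2y, Fin.reduceEq, ↓reduceIte] at he
    have key : ∀ i k, i ≠ D.one → D.c k i ≠ 0 → D.c 0 i + D.c 1 i + D.c 2 i = 2 * D.c k i →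
        -(1 / 14 : ℚ) ≤ (D.c k i : ℚ) / D.d i ∧ (D.c k i : ℚ) / D.d i ≤ 1 / 10 := by
      intro i k hi hk hv
      obtain ⟨h1', hne⟩ := D.lt i hi k hk
      obtain ⟨h8, hpos⟩ := D.dvd i hi k hk
      rw [hv] at hne h8 hpos
      have hdq : (0 : ℚ) < D.d i := by exact_mod_cast D.dpos i
      rcases D.sq_eq_one k hk with e | e <;> rw [e] at h8 hne hpos ⊢
      · have : (10 : ℚ) ≤ D.d i := by exact_mod_cast (show (10 : ℤ) ≤ D.d i by omega)
        push_cast
        constructor
        · have : (0 : ℚ) < 1 / (D.d i : ℚ) := by positivity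
          linarith
        · exact one_div_le_one_div_of_le (by norm_num) this
      · have : (14 : ℚ) ≤ D.d i := by exact_mod_cast (show (14 : ℤ) ≤ D.d i by omega)
        push_cast
        rw [neg_div]
        constructor
        · exact neg_le_neg (one_div_le_one_div_of_le (by norm_num) this)
        · have : (0 : ℚ) < 1 / (D.d i : ℚ) := by positivity
          linarith
    have kr := key r 0 hr1 cr (by rw [hr, h2r]; ring)
    have kx := key x 1 hx1 cx (by rw [hx, h2x]; ring)
    have ky : (D.c 1 y : ℚ) / D.d y ≤ 1 / 7 := by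
      obtain ⟨h1', hne⟩ := D.lt y hy1 1 cy
      obtain ⟨h8, hpos⟩ := D.dvd y hy1 1 cy
      rw [hy, h2y] at h8 hpos hne
      have : (7 : ℚ) ≤ D.d y := by
        rcases D.sq_eq_one 1 cy with e | e <;> rw [e] at h8 hpos hne <;>
          exact_mod_cast (show (7 : ℤ) ≤ D.d y by omega)
      rcases D.sq_eq_one 1 cy with e | e <;> rw [e] <;> push_cast
      · exact one_div_le_one_div_of_le (by norm_num) this
      · rw [neg_div]
        have : (0 : ℚ) < 1 / (D.d y : ℚ) := by positivity
        linarith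
    have e0 : ∀ a : ℤ, (a = 1 ∨ a = -1) → (a : ℚ) ^ 2 = 1 := fun a ha => by
      rcases ha with rfl | rfl <;> simp
    have sr := e0 _ (D.sq_eq_one 0 cr)
    have sx := e0 _ (D.sq_eq_one 1 cx)
    have sy := e0 _ (D.sq_eq_one 1 cy)
    have tr : (((D.c 0 r + 0 + D.c 0 r) ^ 2 * (D.c 0 r - 0) : ℤ) : ℚ) / D.d r =
        4 * ((D.c 0 r : ℚ) / D.d r) := by
      rw [← mul_div_assoc]; congr 1; push_cast; linear_combination 4 * (D.c 0 r : ℚ) * sr
    have tx : (((0 + D.c 1 x + D.c 1 x) ^ 2 * (0 - D.c 1 x) : ℤ) : ℚ) / D.d x =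
        -4 * ((D.c 1 x : ℚ) / D.d x) := by
      rw [← mul_div_assoc]; congr 1; push_cast; linear_combination -4 * (D.c 1 x : ℚ) * sx
    have ty : (((0 + D.c 1 y + 0) ^ 2 * (0 - D.c 1 y) : ℤ) : ℚ) / D.d y =
        -((D.c 1 y : ℚ) / D.d y) := by
      rw [← neg_div]; congr 1; push_cast; linear_combination -(D.c 1 y : ℚ) * sy
    rw [tr, tx, ty] at he
    norm_num at he
    linarith
  · have hdiff : D.c 0 i - D.c 1 i = 0 := by
      simp only [mem_insert, mem_singleton, not_or] at hi
      by_cases hip : i = p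
      · rw [hip, h1p, sub_self]
      by_cases hiq : i = q
      · rw [hiq, h1q, sub_self]
      have a0 : i ∉ D.supp 0 := by rw [h0]; simp [hi.1, hi.2.1, hip, hiq]
      have a1 : i ∉ D.supp 1 := by rw [h1]; simp [hi.2.2.1, hi.2.2.2, hip, hiq]
      rw [mem_supp, not_not] at a0 a1
      rw [a0, a1, sub_self]
    rw [hdiff, mul_zero, Int.cast_zero, zero_div]

set_option maxHeartbeats 1000000 in
theorem contradiction (D : Config I) : False := by
  classical
  obtain ⟨p, q, r, hpq, hpr, hqr, hp1, hq1, hr1, h0, hm1, h1p, h1q⟩ := D.meet_zero (k := 1) (by decide)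
  obtain ⟨a, b, e, hab, -, -, -, -, -, -, hm2, h2a, h2b⟩ := D.meet_zero (k := 2) (by decide)
  have hp : p ∈ D.supp 1 := (mem_inter.mp (hm1.symm ▸ mem_insert_self p {q})).2
  have hq : q ∈ D.supp 1 := (mem_inter.mp (hm1.symm ▸ mem_insert_of_mem (mem_singleton_self q))).2
  have hr : r ∉ D.supp 1 := fun h => by
    have : r ∈ D.supp 0 ∩ D.supp 1 := mem_inter.mpr ⟨by rw [h0]; simp, h⟩
    rw [hm1] at this
    simp [Ne.symm hpr, Ne.symm hqr] at this
  obtain ⟨x, y, hxy, hxy'⟩ := card_eq_two.mp (show ((D.supp 1) \ {p, q}).card = 2 by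
    rw [card_sdiff_of_subset (by simp [insert_subset_iff, hp, hq]), D.card_supp, card_pair hpq])
  have hx' : x ∈ (D.supp 1) \ {p, q} := hxy' ▸ mem_insert_self x {y}
  have hy' : y ∈ (D.supp 1) \ {p, q} := hxy' ▸ mem_insert_of_mem (mem_singleton_self y)
  simp only [mem_sdiff, mem_insert, mem_singleton, not_or] at hx' hy'
  have h1 : D.supp 1 = {p, q, x, y} := by
    rw [← union_sdiff_of_subset (show ({p, q} : Finset I) ⊆ D.supp 1 by
      simp [insert_subset_iff, hp, hq]), hxy']
    ext z; simp only [mem_union, mem_insert, mem_singleton]; tauto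
  have hnx : ∀ z ∈ D.supp 1, z ≠ p → z ≠ q → z ∉ D.supp 0 := fun z hz h h' hz0 => by
    have : z ∈ D.supp 0 ∩ D.supp 1 := mem_inter.mpr ⟨hz0, hz⟩
    rw [hm1] at this
    simp [h, h'] at this
  have hx := hnx x hx'.1 hx'.2.1 hx'.2.2
  have hy := hnx y hy'.1 hy'.2.1 hy'.2.2
  have hone : ∀ i ∈ ({p, q, r, x, y} : Finset I), i ≠ D.one := by
    simp only [mem_insert, mem_singleton, forall_eq_or_imp, forall_eq]
    exact ⟨hp1, hq1, hr1, fun h => hx (h ▸ D.one_mem), fun h => hy (h ▸ D.one_mem)⟩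
  -- values of the third vector on the first two supports
  have ha0 : a ∈ D.supp 0 ∧ a ∈ D.supp 2 := mem_inter.mp (hm2.symm ▸ mem_insert_self a {b})
  have hb0 : b ∈ D.supp 0 ∧ b ∈ D.supp 2 :=
    mem_inter.mp (hm2.symm ▸ mem_insert_of_mem (mem_singleton_self b))
  have hc2 : ∀ i ∈ D.supp 0, D.c 2 i = if i = a ∨ i = b then D.c 0 i else 0 := by
    intro i hi
    split_ifs with h
    · rcases h with rfl | rfl <;> assumption
    · by_contra h'
      have : i ∈ D.supp 0 ∩ D.supp 2 := mem_inter.mpr ⟨hi, D.mem_supp.mpr h'⟩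
      rw [hm2] at this
      simp_all
  have mp : p ∈ D.supp 0 := by rw [h0]; simp
  have mq : q ∈ D.supp 0 := by rw [h0]; simp
  have mr : r ∈ D.supp 0 := by rw [h0]; simp
  have hab3 : (a = p ∨ a = q ∨ a = r) ∧ (b = p ∨ b = q ∨ b = r) := by
    have e1 := ha0.1; have e2 := hb0.1
    rw [h0] at e1 e2
    simp only [mem_insert, mem_singleton] at e1 e2
    exact ⟨e1.resolve_left fun h => D.one_notMem (k := 2) (by decide) (h ▸ ha0.2),
      e2.resolve_left fun h => D.one_notMem (k := 2) (by decide) (h ▸ hb0.2)⟩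
  have sq : ∀ {k : Fin 3} {i}, i ∈ D.supp k → D.c k i * D.c k i = 1 := fun {k i} h => by
    rcases D.sq_eq_one k (D.mem_supp.mp h) with e' | e' <;> simp [e']
  have hdot : D.c 2 p * D.c 0 p + D.c 2 q * D.c 0 q + D.c 1 x * D.c 2 x + D.c 1 y * D.c 2 y = 2 := by
    have h := D.gram 1 2
    rw [if_neg (by decide), ← sum_subset (subset_univ (D.supp 1))
      (fun i _ hi => by rw [mem_supp, not_not] at hi; rw [hi, zero_mul]), h1,
      sum_insert (by simp [hpq, Ne.symm hx'.2.1, Ne.symm hy'.2.1]),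
      sum_insert (by simp [Ne.symm hx'.2.2, Ne.symm hy'.2.2]), sum_pair hxy, h1p, h1q] at h
    linarith
  rw [hc2 p mp, hc2 q mq] at hdot
  have h8 : D.c 1 x = 1 ∨ D.c 1 x = -1 := D.sq_eq_one 1 (D.mem_supp.mp hx'.1)
  have h9 : D.c 1 y = 1 ∨ D.c 1 y = -1 := D.sq_eq_one 1 (D.mem_supp.mp hy'.1)
  have bnd : ∀ i, D.c 2 i = 0 ∨ D.c 2 i = 1 ∨ D.c 2 i = -1 := fun i => by
    by_cases h : D.c 2 i = 0
    · exact Or.inl h
    · exact Or.inr (D.sq_eq_one 2 h)
  by_cases hr2 : a = r ∨ b = r
  · -- exactly one of `p`, `q`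
    have hcr : D.c 2 r = D.c 0 r := by
      rw [hc2 r mr, if_pos]
      rcases hr2 with h | h
      · exact Or.inl h.symm
      · exact Or.inr h.symm
    have hpqcase : (p = a ∨ p = b) ∧ ¬ (q = a ∨ q = b) ∨ ¬ (p = a ∨ p = b) ∧ (q = a ∨ q = b) := by
      rcases hab3.1 with h | h | h <;> rcases hab3.2 with h' | h' | h' <;> subst h h' <;> simp_all <;> tauto
    have hd1 : D.c 1 x * D.c 2 x + D.c 1 y * D.c 2 y = 1 := by
      have e1 := sq mp
      have e2 := sq mq
      rcases hpqcase with ⟨u, u'⟩ | ⟨u, u'⟩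
      · rw [if_pos u, if_neg u', zero_mul] at hdot; linarith
      · rw [if_neg u, if_pos u', zero_mul] at hdot; linarith
    have hcases : (D.c 2 x = D.c 1 x ∧ D.c 2 y = 0) ∨ (D.c 2 y = D.c 1 y ∧ D.c 2 x = 0) := by
      rcases h8 with u | u <;> rcases h9 with u' | u' <;> rcases bnd x with w | w | w <;>
        rcases bnd y with w' | w' | w' <;> rw [u, u', w, w'] at hd1 <;> simp [u, u', w, w'] at hd1 ⊢
    rcases hcases with ⟨hxe, hye⟩ | ⟨hye, hxe⟩
    · exact D.not_meet_other hpr hxy hone h0 h1 hx hy hr h1p h1q hcr hxe hye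
    · refine D.not_meet_other hpr (Ne.symm hxy) ?_ h0 ?_ hy hx hr h1p h1q hcr hye hxe
      · intro i hi
        refine hone i ?_
        simp only [mem_insert, mem_singleton] at hi ⊢
        rcases hi with h | h | h | h | h
        · exact Or.inl h
        · exact Or.inr (Or.inl h)
        · exact Or.inr (Or.inr (Or.inl h))
        · exact Or.inr (Or.inr (Or.inr (Or.inr h)))
        · exact Or.inr (Or.inr (Or.inr (Or.inl h)))
      · rw [h1, Finset.pair_comm x y]
  · -- the same pair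
    have hap : (p = a ∨ p = b) ∧ (q = a ∨ q = b) := by
      rcases hab3.1 with h | h | h <;> rcases hab3.2 with h' | h' | h' <;> subst h h' <;> simp_all
    rw [if_pos hap.1, if_pos hap.2, sq mp, sq mq] at hdot
    have hcr : D.c 2 r = 0 := by
      rw [hc2 r mr, if_neg]
      rintro (h | h)
      · exact hr2 (Or.inl h.symm)
      · exact hr2 (Or.inr h.symm)
    have cx : D.c 1 x ≠ 0 := D.mem_supp.mp hx'.1
    have cy : D.c 1 y ≠ 0 := D.mem_supp.mp hy'.1
    rw [mem_supp, not_not] at hx hy hr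
    simp only [mem_insert, mem_singleton, forall_eq_or_imp, forall_eq] at hone
    obtain ⟨-, -, -, hx1, hy1⟩ := hone
    have cp : D.c 0 p ≠ 0 := D.mem_supp.mp mp
    have cq : D.c 0 q ≠ 0 := D.mem_supp.mp mq
    have cr : D.c 0 r ≠ 0 := D.mem_supp.mp mr
    have e0 : 1 + D.c 0 p * D.d p + D.c 0 q * D.d q + D.c 0 r * D.d r = 0 := by
      have h := D.deg 0
      rw [← sum_subset (subset_univ (D.supp 0))
        (fun i _ hi => by rw [mem_supp, not_not] at hi; rw [hi, zero_mul]), h0,
        sum_insert (by simp [Ne.symm hp1, Ne.symm hq1, Ne.symm hr1]),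
        sum_insert (by simp [hpq, hpr]), sum_pair hqr, D.cone, D.done] at h
      simp at h; linarith
    have e1 : D.c 0 p * D.d p + D.c 0 q * D.d q + D.c 1 x * D.d x + D.c 1 y * D.d y = 0 := by
      have h := D.deg 1
      rw [← sum_subset (subset_univ (D.supp 1))
        (fun i _ hi => by rw [mem_supp, not_not] at hi; rw [hi, zero_mul]), h1,
        sum_insert (by simp [hpq, Ne.symm hx'.2.1, Ne.symm hy'.2.1]),
        sum_insert (by simp [Ne.symm hx'.2.2, Ne.symm hy'.2.2]), sum_pair hxy, h1p, h1q] at h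
      linarith
    by_cases hx2 : D.c 2 x = 0
    · have hy2 : D.c 2 y = 0 := by
        rw [hx2] at hdot
        rcases h9 with u | u <;> rw [u] at hdot <;> omega
      have he := D.eqn
      have hxr : x ≠ r := fun h => cr (h ▸ hx)
      have hyr : y ≠ r := fun h => cr (h ▸ hy)
      rw [← sum_subset (s₁ := {D.one, r, x, y}) (subset_univ _) (fun i _ hi => ?_),
        sum_insert (by simp [Ne.symm hr1, Ne.symm hx1, Ne.symm hy1]),
        sum_insert (by simp [Ne.symm hxr, Ne.symm hyr]), sum_pair hxy] at he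
      · simp only [D.cone, D.done, hx, hy, hr, hcr, hx2, hy2, Fin.reduceEq, ↓reduceIte] at he
        have sr := D.sq_eq_one 0 cr
        refine no_unit_relation (abs_signed sr (D.lt r hr1 0 cr).1) (abs_signed h8 (D.lt x hx1 1 cx).1)
          (abs_signed h9 (D.lt y hy1 1 cy).1) (by linarith) ?_
        rw [inv_cast_mul sr, inv_cast_mul h8, inv_cast_mul h9]
        refine Eq.trans ?_ he
        rcases sr with u | u <;> rcases h8 with u' | u' <;> rcases h9 with u'' | u'' <;>
          rw [u, u', u''] <;> norm_num <;> ring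
      · have hdiff : D.c 0 i - D.c 1 i = 0 := by
          simp only [mem_insert, mem_singleton, not_or] at hi
          by_cases hip : i = p
          · rw [hip, h1p, sub_self]
          by_cases hiq : i = q
          · rw [hiq, h1q, sub_self]
          have a0 : i ∉ D.supp 0 := by rw [h0]; simp [hi.1, hi.2.1, hip, hiq]
          have a1 : i ∉ D.supp 1 := by rw [h1]; simp [hi.2.2.1, hi.2.2.2, hip, hiq]
          rw [mem_supp, not_not] at a0 a1
          rw [a0, a1, sub_self]
        rw [hdiff, mul_zero, Int.cast_zero, zero_div]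
    · have hy2 : D.c 2 y ≠ 0 := by
        intro h
        rw [h] at hdot
        rcases h8 with u | u <;> rw [u] at hdot <;> omega
      have h2 : D.supp 2 = {p, q, x, y} := by
        symm
        apply eq_of_subset_of_card_le
        · intro i hi
          simp only [mem_insert, mem_singleton] at hi
          rw [mem_supp]
          rcases hi with rfl | rfl | rfl | rfl
          · rwa [hc2 _ mp, if_pos hap.1]
          · rwa [hc2 _ mq, if_pos hap.2]
          · exact hx2
          · exact hy2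
        · rw [D.card_supp, ← h1, D.card_supp]
      have e2 : D.c 0 p * D.d p + D.c 0 q * D.d q + D.c 2 x * D.d x + D.c 2 y * D.d y = 0 := by
        have h := D.deg 2
        rw [← sum_subset (subset_univ (D.supp 2))
          (fun i _ hi => by rw [mem_supp, not_not] at hi; rw [hi, zero_mul]), h2,
          sum_insert (by simp [hpq, Ne.symm hx'.2.1, Ne.symm hy'.2.1]),
          sum_insert (by simp [Ne.symm hx'.2.2, Ne.symm hy'.2.2]), sum_pair hxy, hc2 _ mp,
          if_pos hap.1, hc2 _ mq, if_pos hap.2] at h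
        linarith
      have hs : (D.c 2 x = D.c 1 x ∧ D.c 2 y = -D.c 1 y) ∨ (D.c 2 x = -D.c 1 x ∧ D.c 2 y = D.c 1 y) := by
        rcases (bnd x).resolve_left hx2 with w | w <;> rcases (bnd y).resolve_left hy2 with w' | w' <;>
          rw [w, w'] at hdot ⊢ <;> omega
      have hy0 : D.c 1 y * D.d y ≠ 0 := mul_ne_zero cy (D.dpos y).ne'
      have hx0 : D.c 1 x * D.d x ≠ 0 := mul_ne_zero cx (D.dpos x).ne'
      rcases hs with ⟨u, u'⟩ | ⟨u, u'⟩ <;> rw [u, u', neg_mul] at e2
      · exact hy0 (by linarith)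
      · exact hx0 (by linarith)

end Config

end Cfsg.Agent.InvChar68.Eight
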