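import Cfsg.Agent.InvChar68.Eight.Local

/-!
# The three functions on the section, their Gram matrix and their integrality
-/

set_option autoImplicit false

namespace Cfsg.Agent.InvChar68.Eight.Loc

open scoped ComplexConjugate
open Finset

set_option linter.unusedSectionVars false
set_option linter.style.haveILetI false

variable {H : Type*} [Group H] [Fintype H] (D : Loc H)

noncomputable def sigma : H →* ℤˣ := D.exists_sigma.choose

theorem sigma_t : D.sigma D.t = -1 := D.exists_sigma.choose_spec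

noncomputable def lam : H →* ℂ := D.exists_lam.choose

theorem lam_eq_one {h : H} : D.lam h = 1 ↔ h ∈ D.L := D.exists_lam.choose_spec.1 h

theorem lam_cube (h : H) : D.lam h ^ 3 = 1 := D.exists_lam.choose_spec.2 h

/-- The sign of `sigma` as a complex number. -/
noncomputable def sgn : H →* ℂ :=
  ((Int.castRingHom ℂ).toMonoidHom.comp (Units.coeHom ℤ)).comp D.sigma

theorem sgn_cases (h : H) : (D.sigma h = 1 ∧ D.sgn h = 1) ∨ (D.sigma h = -1 ∧ D.sgn h = -1) := by
  rcases Int.units_eq_one_or (D.sigma h) with e | e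
  · exact Or.inl ⟨e, by simp [sgn, e]⟩
  · exact Or.inr ⟨e, by simp [sgn, e]⟩

theorem sigma_K {k : H} (hk : k ∈ D.K) : D.sigma k = 1 := by
  obtain ⟨j, hj⟩ := D.Kodd
  have h1 : k ^ (2 * j + 1) = 1 := by
    rw [← hj]
    exact congrArg Subtype.val (pow_card_eq_one' (x := (⟨k, hk⟩ : D.K)))
  have h2 := congrArg D.sigma h1
  rwa [map_pow, map_one, pow_succ, pow_mul, Int.units_sq, one_pow, one_mul] at h2

theorem tt : D.t * D.t = 1 := D.Tsq _ D.tT

theorem memTK {g : H} (h : D.t * g ∈ D.K) : g ∈ D.L ∧ D.sigma g = -1 := by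
  have e : g = D.t * (D.t * g) := by rw [← mul_assoc, D.tt, one_mul]
  rw [e]
  exact ⟨D.L.mul_mem D.t_memL (D.K_le h), by rw [map_mul, D.sigma_t, D.sigma_K h, mul_one]⟩

/-- The elements outside `T K` on which `sigma` is negative. -/
def InT (g : H) : Prop := D.sigma g = -1 ∧ g ∉ D.L

open scoped Classical in
/-- The functions. -/
noncomputable def f (i : Fin 3) (g : H) : ℂ :=
  if D.t * g ∈ D.K then 8 else if D.InT g then 2 * D.lam g ^ (i : ℕ) else 0

theorem sigma_conj (g h : H) : D.sigma (h * g * h⁻¹) = D.sigma g := by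
  rw [map_mul, map_mul, mul_comm (D.sigma h), mul_assoc, ← map_mul, mul_inv_cancel, map_one, mul_one]

theorem lam_conj (g h : H) : D.lam (h * g * h⁻¹) = D.lam g := by
  rw [map_mul, map_mul, mul_comm (D.lam h), mul_assoc, ← map_mul, mul_inv_cancel, map_one, mul_one]

theorem tK_conj (g h : H) : D.t * (h * g * h⁻¹) ∈ D.K ↔ D.t * g ∈ D.K := by
  have e : D.t * (h * g * h⁻¹) = h * (D.t * g) * h⁻¹ := by
    rw [← mul_assoc h, D.tZ h]; group
  rw [e]
  refine ⟨fun hh => ?_, fun hh => D.Knormal.conj_mem _ hh h⟩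
  have := D.Knormal.conj_mem _ hh h⁻¹
  convert this using 1; group

theorem InT_conj (g h : H) : D.InT (h * g * h⁻¹) ↔ D.InT g := by
  rw [InT, InT, D.sigma_conj, ← D.lam_eq_one, ← D.lam_eq_one, D.lam_conj]

theorem isClassFunction_f (i : Fin 3) : Cfsg.IsClassFunction H (D.f i) := by
  intro g h
  classical
  simp only [f, D.tK_conj, D.InT_conj, D.lam_conj]

theorem conj_lam (g : H) : conj (D.lam g) = D.lam g ^ 2 := by
  have h1 : ‖D.lam g‖ = 1 := Complex.norm_eq_one_of_pow_eq_one (D.lam_cube g) (by norm_num)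
  rw [← Complex.inv_eq_conj h1]
  exact (eq_inv_of_mul_eq_one_left (by rw [← pow_succ, D.lam_cube])).symm

open scoped Classical in
theorem sum_L_sgn : ∑ g : D.L, D.sgn g = 0 := by
  refine sum_hom_units_eq_zero (D.sgn.comp D.L.subtype) fun h => ?_
  have := DFunLike.congr_fun h ⟨D.t, D.t_memL⟩
  simp [sgn, D.sigma_t] at this
  norm_num at this

open scoped Classical in
theorem card_negL : ((univ.filter fun g : H => g ∈ D.L ∧ D.sigma g = -1).card : ℂ) =
    4 * Nat.card D.K := by
  have h0 : ∑ g ∈ univ.filter (fun g : H => g ∈ D.L), D.sgn g = 0 := by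
    rw [Finset.sum_subtype (p := fun g => g ∈ D.L) _ (fun g => by simp)]
    exact D.sum_L_sgn
  have hc : ((univ.filter fun g : H => g ∈ D.L).card : ℂ) = 8 * Nat.card D.K := by
    rw [← Fintype.card_subtype]
    rw [show Fintype.card {g : H // g ∈ D.L} = Nat.card D.L from Fintype.card_eq_nat_card, D.cardL]
    push_cast; rfl
  have key : ∀ g : H, D.sgn g = 1 - 2 * if D.sigma g = -1 then (1 : ℂ) else 0 := fun g => by
    rcases D.sgn_cases g with ⟨e, e'⟩ | ⟨e, e'⟩ <;> rw [e', e] <;> norm_num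
  rw [sum_congr rfl (fun g _ => key g), sum_sub_distrib, sum_const, nsmul_one, hc, ← mul_sum,
    sum_ite, sum_const_zero, add_zero, sum_const, nsmul_one, filter_filter] at h0
  linear_combination (-1 / 2 : ℂ) * h0

open scoped Classical in
theorem card_tK : ((univ.filter fun g : H => D.t * g ∈ D.K).card : ℂ) = Nat.card D.K := by
  rw [← Fintype.card_subtype, ← Nat.card_eq_fintype_card]
  congr 1
  exact Nat.card_congr (Equiv.subtypeEquiv (Equiv.mulLeft D.t) fun g => Iff.rfl)

open scoped Classical in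
theorem sum_T (e : ℕ) : ∑ g ∈ univ.filter (fun g : H => D.InT g), D.lam g ^ e =
    if e % 3 = 0 then 8 * (Nat.card D.K : ℂ) else -4 * Nat.card D.K := by
  have hsplit : ∑ g : H, (1 - D.sgn g) * D.lam g ^ e =
      2 * ∑ g ∈ univ.filter (fun g : H => D.InT g), D.lam g ^ e +
        2 * ((univ.filter fun g : H => g ∈ D.L ∧ D.sigma g = -1).card : ℂ) := by
    rw [← nsmul_one (univ.filter fun g : H => g ∈ D.L ∧ D.sigma g = -1).card, ← sum_const, mul_sum,
      mul_sum, sum_filter, sum_filter, ← sum_add_distrib]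
    refine sum_congr rfl fun g _ => ?_
    rcases D.sgn_cases g with ⟨h, h'⟩ | ⟨h, h'⟩ <;> rw [h']
    · simp [InT, h]
    · by_cases hL : g ∈ D.L
      · rw [if_neg (fun hh => hh.2 hL), if_pos ⟨hL, h⟩, D.lam_eq_one.mpr hL]; norm_num
      · rw [if_pos ⟨h, hL⟩, if_neg (fun hh => hL hh.1)]; ring
  have h2 : ∑ g : H, D.sgn g * D.lam g ^ e = 0 := by
    refine sum_hom_units_eq_zero (D.sgn * (powMonoidHom e).comp D.lam) fun h => ?_
    have := DFunLike.congr_fun h D.t
    simp [sgn, D.sigma_t, D.lam_eq_one.mpr D.t_memL] at this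
    norm_num at this
  have h1 : ∑ g : H, D.lam g ^ e = if e % 3 = 0 then (24 : ℂ) * Nat.card D.K else 0 := by
    split_ifs with he
    · have : ∀ g, D.lam g ^ e = 1 := fun g => by
        rw [← Nat.div_add_mod e 3, he, add_zero, pow_mul, D.lam_cube, one_pow]
      simp only [this, sum_const, nsmul_one, card_univ, ← Nat.card_eq_fintype_card, D.cardH]
      push_cast; ring
    · refine sum_hom_units_eq_zero ((powMonoidHom e).comp D.lam) fun h => ?_
      have hh : D.lam D.h₀ ^ e = 1 := by simpa using DFunLike.congr_fun h D.h₀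
      rw [← Nat.div_add_mod e 3, pow_add, pow_mul, D.lam_cube, one_pow, one_mul] at hh
      have hne : D.lam D.h₀ ≠ 1 := fun h1 => D.h₀L (D.lam_eq_one.mp h1)
      have hlt := Nat.mod_lt e (show 3 > 0 by norm_num)
      interval_cases h3 : e % 3
      · exact he rfl
      · exact hne (by simpa using hh)
      · exact hne (by have := D.lam_cube D.h₀; rwa [pow_succ, hh, one_mul] at this)
  simp only [sub_mul, one_mul, sum_sub_distrib, h1, h2, sub_zero, D.card_negL] at hsplit
  split_ifs with he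
  · rw [if_pos he] at hsplit; linear_combination (-1 / 2 : ℂ) * hsplit
  · rw [if_neg he] at hsplit; linear_combination (-1 / 2 : ℂ) * hsplit

theorem cardH_ne : (Nat.card H : ℂ) ≠ 0 := Nat.cast_ne_zero.mpr Nat.card_pos.ne'

open scoped Classical in
theorem gram (i j : Fin 3) :
    Cfsg.classInner (D.f i) (D.f j) = if i = j then 4 else 2 := by
  have key : ∀ g, D.f i g * conj (D.f j g) = (if D.t * g ∈ D.K then 64 else 0) +
      4 * if D.InT g then D.lam g ^ ((i : ℕ) + 2 * j) else 0 := by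
    intro g
    by_cases h : D.t * g ∈ D.K
    · have : ¬ D.InT g := fun hh => hh.2 (D.memTK h).1
      simp [f, h, this, map_ofNat]; norm_num
    · by_cases h' : D.InT g
      · simp [f, h, h', D.conj_lam, map_ofNat, ← pow_mul]; ring
      · simp [f, h, h']
  rw [Cfsg.classInner, sum_congr rfl fun g _ => key g, sum_add_distrib, ← mul_sum, ← sum_filter,
    ← sum_filter, sum_const, nsmul_eq_mul, D.card_tK, D.sum_T, D.cardH]
  have hm : (Nat.card D.K : ℂ) ≠ 0 := Nat.cast_ne_zero.mpr Nat.card_pos.ne'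
  fin_cases i <;> fin_cases j <;> simp <;> field_simp <;> norm_num

open scoped Classical in
theorem one_f (i : Fin 3) :
    Cfsg.classInner (fun _ : H => (1 : ℂ)) (D.f i) = if i = 0 then 1 else 0 := by
  have key : ∀ g, (1 : ℂ) * conj (D.f i g) = (if D.t * g ∈ D.K then 8 else 0) +
      2 * if D.InT g then D.lam g ^ (2 * (i : ℕ)) else 0 := by
    intro g
    by_cases h : D.t * g ∈ D.K
    · have : ¬ D.InT g := fun hh => hh.2 (D.memTK h).1
      simp [f, h, this, map_ofNat]
    · by_cases h' : D.InT g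
      · simp [f, h, h', D.conj_lam, map_ofNat, ← pow_mul]
      · simp [f, h, h']
  rw [Cfsg.classInner, sum_congr rfl fun g _ => key g, sum_add_distrib, ← mul_sum, ← sum_filter,
    ← sum_filter, sum_const, nsmul_eq_mul, D.card_tK, D.sum_T, D.cardH]
  have hm : (Nat.card D.K : ℂ) ≠ 0 := Nat.cast_ne_zero.mpr Nat.card_pos.ne'
  fin_cases i <;> simp <;> field_simp <;> norm_num

/-- The three functions add up to a multiple of the indicator of `t K`. -/
theorem f_sum (g : H) [Decidable (D.t * g ∈ D.K)] :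
    D.f 0 g + D.f 1 g + D.f 2 g = if D.t * g ∈ D.K then 24 else 0 := by
  classical
  by_cases h : D.t * g ∈ D.K
  · simp [f, h]; norm_num
  · by_cases h' : D.InT g
    · have hne : D.lam g - 1 ≠ 0 := sub_ne_zero.mpr fun e => h'.2 (D.lam_eq_one.mp e)
      have h3 : (D.lam g - 1) * (1 + D.lam g + D.lam g ^ 2) = 0 := by
        linear_combination D.lam_cube g
      have h4 := (mul_eq_zero.mp h3).resolve_left hne
      simp [f, h, h']
      linear_combination 2 * h4
    · simp [f, h, h']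

/-- The difference with the first function is a combination of linear characters. -/
theorem f_sub (i : Fin 3) (g : H) :
    D.f i g - D.f 0 g = D.lam g ^ (i : ℕ) - D.sgn g * D.lam g ^ (i : ℕ) - (1 - D.sgn g) := by
  classical
  by_cases h : D.t * g ∈ D.K
  · rw [D.lam_eq_one.mpr (D.memTK h).1]; simp [f, h]
  · rcases D.sgn_cases g with ⟨e, e'⟩ | ⟨e, e'⟩ <;> rw [e']
    · simp [f, h, InT, e]
    · by_cases hL : g ∈ D.L
      · rw [D.lam_eq_one.mpr hL]; simp [f, h, InT, hL]
      · simp [f, h, InT, e, hL]; ring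

theorem linear_int {θ : H → ℂ} (hθ : Cfsg.IsGeneralizedCharacter H θ) (φ : H →* ℂ) :
    ∃ k : ℤ, Cfsg.classInner θ φ = k := by
  have := CharCore.isIrrCharacter_hom φ.toHomUnits
  exact CharCore.IsGeneralizedCharacter.exists_classInner_irr_eq_intCast hθ
    ⟨φ, by convert this using 1; funext x; simp⟩

open scoped Classical in
/-- An auxiliary sign on `T K`. -/
noncomputable def mu (g : H) : ℂ :=
  if h : g ∈ D.L then (((D.exists_mu.choose ⟨g, h⟩ : ℤˣ) : ℤ) : ℂ) else 0

theorem mu_bracket {g : H} (hgL : g ∈ D.L) (hσ : D.sigma g = -1) (htK : D.t * g ∉ D.K) :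
    D.mu g + D.mu (D.h₀ * g * D.h₀⁻¹) + D.mu (D.h₀ ^ 2 * g * (D.h₀ ^ 2)⁻¹) = -1 := by
  classical
  obtain ⟨hμt, w, hw, hμw⟩ := D.exists_mu.choose_spec
  set μ := D.exists_mu.choose with hμ
  have hμK : ∀ k : D.L, (k : H) ∈ D.K → μ k = 1 := by
    intro k hk
    obtain ⟨j, hj⟩ := D.Kodd
    have h1 : k ^ (2 * j + 1) = 1 := by
      rw [← hj]
      apply Subtype.ext
      rw [SubmonoidClass.coe_pow]
      exact congrArg Subtype.val (pow_card_eq_one' (x := (⟨k, hk⟩ : D.K)))
    have h2 := congrArg μ h1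
    rwa [map_pow, map_one, pow_succ, pow_mul, Int.units_sq, one_pow, one_mul] at h2
  obtain ⟨s, hs, k, hk, rfl⟩ := D.mem_L_iff.mp hgL
  let ι : ∀ x ∈ D.T, D.L := fun x hx => ⟨x, D.T_le hx⟩
  set s₁ := D.h₀ * s * D.h₀⁻¹ with hs₁d
  set s₂ := D.h₀ * s₁ * D.h₀⁻¹ with hs₂d
  have hs₁ : s₁ ∈ D.T := D.h₀T s hs
  have hs₂ : s₂ ∈ D.T := D.h₀T s₁ hs₁
  have hs₃ : D.h₀ * s₂ * D.h₀⁻¹ = s := by
    refine Eq.trans ?_ (D.h₀cube s hs)
    rw [hs₂d, hs₁d, pow_succ, pow_two]; group
  have hval : ∀ (x : H) (hx : x ∈ D.T) (c : H) (hc : c ∈ D.K),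
      D.mu (x * c) = (((μ (ι x hx) : ℤˣ) : ℤ) : ℂ) := by
    intro x hx c hc
    rw [mu, dif_pos (D.L.mul_mem (D.T_le hx) (D.K_le hc)),
      show (⟨x * c, _⟩ : D.L) = ι x hx * ⟨c, D.K_le hc⟩ from rfl, map_mul, hμK ⟨c, D.K_le hc⟩ hc, mul_one]
  rw [hval s hs k hk,
    show D.h₀ * (s * k) * D.h₀⁻¹ = s₁ * (D.h₀ * k * D.h₀⁻¹) by rw [hs₁d]; group,
    hval s₁ hs₁ _ (D.Knormal.conj_mem k hk _),
    show D.h₀ ^ 2 * (s * k) * (D.h₀ ^ 2)⁻¹ = s₂ * (D.h₀ ^ 2 * k * (D.h₀ ^ 2)⁻¹) by
      rw [hs₂d, hs₁d, pow_two]; group,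
    hval s₂ hs₂ _ (D.Knormal.conj_mem k hk _)]
  have hsσ : D.sigma s = -1 := by rw [← hσ, map_mul, D.sigma_K hk, mul_one]
  have hs1 : s ≠ 1 := fun h => by rw [h, map_one] at hsσ; exact absurd hsσ (by decide)
  have hst : s ≠ D.t := fun h => htK (by rw [h, ← mul_assoc, D.tt, one_mul]; exact hk)
  -- the product of the three conjugates is fixed
  have hprod : D.h₀ * (s * s₁ * s₂) * D.h₀⁻¹ = s * s₁ * s₂ := by
    rw [show D.h₀ * (s * s₁ * s₂) * D.h₀⁻¹ =
      (D.h₀ * s * D.h₀⁻¹) * (D.h₀ * s₁ * D.h₀⁻¹) * (D.h₀ * s₂ * D.h₀⁻¹) by group, ← hs₁d, ← hs₂d, hs₃,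
      D.Tcomm (s₁ * s₂) (D.T.mul_mem hs₁ hs₂) s hs, ← mul_assoc]
  have hu : μ (ι s hs) * μ (ι s₁ hs₁) * μ (ι s₂ hs₂) = 1 := by
    rw [← map_mul, ← map_mul]
    rcases D.hfix _ (D.T.mul_mem (D.T.mul_mem hs hs₁) hs₂) hprod with h | h
    · rw [show ι s hs * ι s₁ hs₁ * ι s₂ hs₂ = 1 from Subtype.ext h, map_one]
    · rw [show ι s hs * ι s₁ hs₁ * ι s₂ hs₂ = ⟨D.t, D.t_memL⟩ from Subtype.ext h, hμt]
  have hnot : ¬ (μ (ι s hs) = 1 ∧ μ (ι s₁ hs₁) = 1) := by
    rintro ⟨u, u'⟩
    -- five elements in the kernel on `T`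
    let M : Subgroup H := (μ.ker.map D.L.subtype) ⊓ D.T
    have hmem : ∀ (x : H) (hx : x ∈ D.T), μ (ι x hx) = 1 → x ∈ M := fun x hx e =>
      ⟨⟨ι x hx, e, rfl⟩, hx⟩
    have m1 := hmem D.t D.tT hμt
    have m2 := hmem s hs u
    have m3 := hmem s₁ hs₁ u'
    have hlt : M ≠ D.T := fun e => by
      obtain ⟨⟨y, hy, hyw⟩, -⟩ := e.symm ▸ hw
      have : y = w := Subtype.ext hyw
      subst this
      rw [MonoidHom.mem_ker.mp hy] at hμw
      exact absurd hμw (by decide)
    have hd := Subgroup.card_dvd_of_le (show M ≤ D.T from inf_le_right)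
    rw [D.Tcard] at hd
    have hs1σ : D.sigma s₁ = -1 := by rw [hs₁d, D.sigma_conj, hsσ]
    have hs11 : s₁ ≠ 1 := fun h => by rw [h, map_one] at hs1σ; exact absurd hs1σ (by decide)
    have hs1t : s₁ ≠ D.t := fun h => hst (by
      have : D.h₀ * s * D.h₀⁻¹ = D.h₀ * D.t * D.h₀⁻¹ := by rw [D.tZ, mul_inv_cancel_right]; exact h
      simpa using this)
    have hs1s : s₁ ≠ s := fun h => (D.hfix s hs h).elim hs1 hst
    have hts : D.t * s ≠ 1 := fun h => hst (by rw [← inv_eq_of_mul_eq_one_right h,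
      inv_eq_of_mul_eq_one_right D.tt])
    have hts' : D.t * s ≠ D.t := fun h => hs1 (mul_left_cancel (h.trans (mul_one _).symm))
    have hts'' : D.t * s ≠ s := fun h => D.t1 (mul_right_cancel (h.trans (one_mul _).symm))
    have hts1 : D.t * s ≠ s₁ := fun h => by
      rw [← h, map_mul, D.sigma_t, hsσ] at hs1σ
      exact absurd hs1σ (by decide)
    have h5 : 5 ≤ Nat.card M := by
      let g : Fin 5 → M := ![1, ⟨_, m1⟩, ⟨_, m2⟩, ⟨_, m3⟩, ⟨_, M.mul_mem m1 m2⟩]
      have hg : Function.Injective g := by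
        intro a b e
        have e' := congrArg Subtype.val e
        fin_cases a <;> fin_cases b <;> simp [g] at e' ⊢
        all_goals first
          | exact absurd e' D.t1 | exact absurd e'.symm D.t1 | exact absurd e' hs1
          | exact absurd e'.symm hs1 | exact absurd e' hs11 | exact absurd e'.symm hs11
          | exact absurd e' hst | exact absurd e'.symm hst | exact absurd e' hs1t
          | exact absurd e'.symm hs1t | exact absurd e' hs1s | exact absurd e'.symm hs1s
          | exact absurd e' hts | exact absurd e'.symm hts | exact absurd e' hts'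
          | exact absurd e'.symm hts' | exact absurd e' hts'' | exact absurd e'.symm hts''
          | exact absurd e' hts1 | exact absurd e'.symm hts1
      simpa using Nat.card_le_card_of_injective g hg
    have h8 : Nat.card M = 8 := by
      obtain ⟨j, hj, e⟩ := (Nat.dvd_prime_pow Nat.prime_two).mp (show Nat.card M ∣ 2 ^ 3 from hd)
      interval_cases j <;> omega
    exact hlt (Subgroup.eq_of_le_of_card_ge inf_le_right (by rw [h8, D.Tcard]))
  rcases Int.units_eq_one_or (μ (ι s hs)) with a | a <;>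
    rcases Int.units_eq_one_or (μ (ι s₁ hs₁)) with b | b <;>
      rcases Int.units_eq_one_or (μ (ι s₂ hs₂)) with c | c <;>
        rw [a, b, c] at hu <;> rw [a, b, c] <;>
          first
          | exact absurd hu (by decide)
          | (norm_num; done)
          | exact (hnot ⟨a, b⟩).elim

theorem f_int {θ : H → ℂ} (hθ : Cfsg.IsGeneralizedCharacter H θ) (i : Fin 3) :
    ∃ k : ℤ, Cfsg.classInner θ (D.f i) = k := by
  classical
  have hcl := CharCore.IsGeneralizedCharacter.isClassFunction hθ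
  -- the first function
  have h0 : ∃ k : ℤ, Cfsg.classInner θ (D.f 0) = k := by
    obtain ⟨a, ha⟩ := linear_int hθ (1 : H →* ℂ)
    obtain ⟨b, hb⟩ := linear_int hθ D.sgn
    have hμhom : ∀ g : D.L, D.mu g = (((D.exists_mu.choose g : ℤˣ) : ℤ) : ℂ) := fun g => by
      rw [mu, dif_pos g.2]
    let M : D.L →* ℂ := ((Int.castRingHom ℂ).toMonoidHom.comp (Units.coeHom ℤ)).comp D.exists_mu.choose
    have hθL : Cfsg.IsGeneralizedCharacter D.L (fun g : D.L => θ g) :=
      CharCore.isGeneralized_restrict hθ D.L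
    obtain ⟨c, hc⟩ := linear_int hθL M
    obtain ⟨d, hd⟩ := linear_int hθL (D.sgn.comp D.L.subtype * M)
    refine ⟨a - b + (c - d), ?_⟩
    push_cast
    rw [← ha, ← hb, ← hc, ← hd]
    simp only [Cfsg.classInner, MonoidHom.one_apply, MonoidHom.mul_apply, MonoidHom.comp_apply,
      Subgroup.coe_subtype]
    rw [← mul_sub, ← mul_sub, ← Finset.sum_sub_distrib, ← Finset.sum_sub_distrib]
    have hLsum : ∑ x : D.L, (θ x * conj (M x) - θ x * conj (D.sgn x * M x)) =
        ∑ g ∈ univ.filter (fun g : H => g ∈ D.L), θ g * ((1 - D.sgn g) * D.mu g) := by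
      rw [Finset.sum_subtype (p := fun g => g ∈ D.L) (univ.filter fun g : H => g ∈ D.L) (fun g => by simp)
        (fun g => θ g * ((1 - D.sgn g) * D.mu g))]
      refine sum_congr rfl fun x _ => ?_
      rw [hμhom x]
      rcases D.sgn_cases (x : H) with ⟨-, e⟩ | ⟨-, e⟩ <;> rw [e] <;> simp [M] <;> ring
    rw [hLsum, D.cardH, D.cardL]
    -- remaining: the conjugates of the elements of `T K` with negative sign outside `t K`
    set Z := univ.filter (fun g : H => g ∈ D.L ∧ D.sigma g = -1 ∧ D.t * g ∉ D.K) with hZ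
    have hinv : ∀ h : H, ∑ g ∈ Z, θ g * D.mu g = ∑ g ∈ Z, θ g * D.mu (h * g * h⁻¹) := by
      intro h
      refine Finset.sum_equiv (MulAut.conj h⁻¹).toEquiv (fun g => ?_) (fun g _ => ?_)
      · simp only [hZ, mem_filter, mem_univ, true_and, MulEquiv.toEquiv_eq_coe, EquivLike.coe_coe,
          MulAut.conj_apply, D.sigma_conj, D.tK_conj, ← D.lam_eq_one, D.lam_conj]
      · simp only [MulEquiv.toEquiv_eq_coe, EquivLike.coe_coe, MulAut.conj_apply]
        rw [hcl]
        congr 2; group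
    have h3 : ∑ g ∈ Z, θ g * (1 + 3 * D.mu g) = 0 := by
      have e : ∑ g ∈ Z, θ g * (1 + 3 * D.mu g) =
          ∑ g ∈ Z, θ g * (1 + (D.mu g + D.mu (D.h₀ * g * D.h₀⁻¹) + D.mu (D.h₀ ^ 2 * g * (D.h₀ ^ 2)⁻¹))) := by
        simp only [mul_add, mul_one, sum_add_distrib, mul_left_comm _ (3 : ℂ), ← mul_sum,
          ← hinv D.h₀, ← hinv (D.h₀ ^ 2)]
        ring
      rw [e]
      refine sum_eq_zero fun g hg => ?_
      rw [hZ, mem_filter] at hg
      rw [D.mu_bracket hg.2.1 hg.2.2.1 hg.2.2.2]; ring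
    have hmain : ∑ g, θ g * conj (D.f 0 g) = (∑ g, (θ g * conj (1 : ℂ) - θ g * conj (D.sgn g))) +
        3 * ∑ g ∈ univ.filter (fun g : H => g ∈ D.L), θ g * ((1 - D.sgn g) * D.mu g) := by
      have h4 : ∑ g, θ g * conj (D.f 0 g) = (∑ g, (θ g * conj (1 : ℂ) - θ g * conj (D.sgn g))) +
          3 * (∑ g ∈ univ.filter (fun g : H => g ∈ D.L), θ g * ((1 - D.sgn g) * D.mu g)) -
          2 * ∑ g ∈ Z, θ g * (1 + 3 * D.mu g) := by
        rw [hZ, sum_filter, sum_filter, mul_sum, mul_sum, ← sum_add_distrib, ← sum_sub_distrib]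
        refine sum_congr rfl fun g _ => ?_
        by_cases h : D.t * g ∈ D.K
        · obtain ⟨hL, hσ⟩ := D.memTK h
          have hμ1 : D.mu g = 1 := by
            obtain ⟨hμt, -⟩ := D.exists_mu.choose_spec
            rw [mu, dif_pos hL, show (⟨g, hL⟩ : D.L) = ⟨D.t, D.t_memL⟩ * ⟨D.t * g, D.K_le h⟩ from
              Subtype.ext (by show g = D.t * (D.t * g); rw [← mul_assoc, D.tt, one_mul]), map_mul, hμt, one_mul]
            have hk : D.exists_mu.choose ⟨D.t * g, D.K_le h⟩ = 1 := by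
              obtain ⟨j, hj⟩ := D.Kodd
              have h1 : (⟨D.t * g, D.K_le h⟩ : D.L) ^ (2 * j + 1) = 1 := by
                rw [← hj]
                apply Subtype.ext
                rw [SubmonoidClass.coe_pow]
                exact congrArg Subtype.val (pow_card_eq_one' (x := (⟨D.t * g, h⟩ : D.K)))
              have h2 := congrArg D.exists_mu.choose h1
              rwa [map_pow, map_one, pow_succ, pow_mul, Int.units_sq, one_pow, one_mul] at h2
            rw [hk]; simp
          rcases D.sgn_cases g with ⟨e, -⟩ | ⟨-, e'⟩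
          · rw [hσ] at e; exact absurd e (by decide)
          · simp [f, h, hL, hσ, e', hμ1, map_ofNat]; ring
        · rcases D.sgn_cases g with ⟨e, e'⟩ | ⟨e, e'⟩ <;> rw [e']
          · simp [f, h, InT, e]
          · by_cases hL : g ∈ D.L
            · simp [f, h, InT, e, hL]; ring
            · simp [f, h, InT, e, hL, map_ofNat]; ring
      rw [h4, h3, mul_zero, sub_zero]
    rw [hmain]
    push_cast
    have hm : (Nat.card D.K : ℂ) ≠ 0 := Nat.cast_ne_zero.mpr Nat.card_pos.ne'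
    field_simp
    ring
  obtain ⟨k₀, hk₀⟩ := h0
  obtain ⟨a, ha⟩ := linear_int hθ ((powMonoidHom (i : ℕ)).comp D.lam)
  obtain ⟨b, hb⟩ := linear_int hθ (D.sgn * (powMonoidHom (i : ℕ)).comp D.lam)
  obtain ⟨c, hc⟩ := linear_int hθ (1 : H →* ℂ)
  obtain ⟨d, hd⟩ := linear_int hθ D.sgn
  refine ⟨k₀ + (a - b) - (c - d), ?_⟩
  push_cast
  rw [← hk₀, ← ha, ← hb, ← hc, ← hd]
  simp only [Cfsg.classInner, MonoidHom.one_apply, MonoidHom.mul_apply, MonoidHom.comp_apply,
    powMonoidHom_apply]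
  rw [← mul_sub, ← mul_sub, ← mul_add, ← mul_sub, ← Finset.sum_sub_distrib, ← Finset.sum_sub_distrib,
    ← Finset.sum_add_distrib, ← Finset.sum_sub_distrib]
  congr 1
  refine sum_congr rfl fun g _ => ?_
  have := congrArg (fun z => θ g * conj z) (D.f_sub i g)
  simp only [map_sub, map_mul, mul_sub] at this
  rw [map_mul]
  linear_combination this

end Cfsg.Agent.InvChar68.Eight.Loc
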