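import Mathlib
import Cfsg.Agent.Lib.CharCore.Linear
import Cfsg.Agent.Lib.CharCore.Virtual
import Cfsg.Agent.Lib.CharInd.Basic

/-!
# A group of shape `K (2 × A₄)` and three functions on the section of its central involution
-/

set_option autoImplicit false

namespace Cfsg.Agent.InvChar68.Eight

open scoped ComplexConjugate

/-- `T` elementary abelian of order eight, `t` central in it, `K` normal of odd order, `T K` normal of
index three and an element normalizing `T` outside it fixing only `1` and `t` in `T`. -/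
structure Loc (H : Type*) [Group H] where
  t : H
  T : Subgroup H
  K : Subgroup H
  h₀ : H
  Knormal : K.Normal
  Kodd : Odd (Nat.card K)
  Tcard : Nat.card T = 8
  Tcomm : ∀ a ∈ T, ∀ b ∈ T, a * b = b * a
  Tsq : ∀ a ∈ T, a * a = 1
  tT : t ∈ T
  t1 : t ≠ 1
  tZ : ∀ h : H, h * t = t * h
  Lnormal : (T ⊔ K).Normal
  Lindex : (T ⊔ K).index = 3
  h₀L : h₀ ∉ T ⊔ K
  h₀T : ∀ s ∈ T, h₀ * s * h₀⁻¹ ∈ T
  hfix : ∀ s ∈ T, h₀ * s * h₀⁻¹ = s → s = 1 ∨ s = t

namespace Loc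

set_option linter.unusedSectionVars false
set_option linter.style.haveILetI false

variable {H : Type*} [Group H] [Finite H] (D : Loc H)

/-- The subgroup `T K`. -/
def L : Subgroup H := D.T ⊔ D.K

theorem K_le : D.K ≤ D.L := le_sup_right
theorem T_le : D.T ≤ D.L := le_sup_left
theorem t_memL : D.t ∈ D.L := D.T_le D.tT

instance instKnormal : D.K.Normal := D.Knormal
instance instLnormal : D.L.Normal := D.Lnormal
instance instSupNormal : (D.T ⊔ D.K).Normal := D.Lnormal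

theorem inf_eq_bot : D.T ⊓ D.K = ⊥ :=
  (Subgroup.disjoint_of_coprime_natCard (by rw [D.Tcard]; exact (Nat.Coprime.pow_left 3 (Nat.coprime_two_left.mpr D.Kodd)))).eq_bot

theorem eq_one_of_mem {a : H} (h1 : a ∈ D.T) (h2 : a ∈ D.K) : a = 1 := by
  have : a ∈ D.T ⊓ D.K := ⟨h1, h2⟩
  rwa [D.inf_eq_bot, Subgroup.mem_bot] at this

theorem mem_L_iff {g : H} : g ∈ D.L ↔ ∃ s ∈ D.T, ∃ k ∈ D.K, g = s * k := by
  rw [L, Subgroup.mem_sup_of_normal_right]
  simp only [eq_comm]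

theorem cardL : Nat.card D.L = 8 * Nat.card D.K := by
  have hinj : Function.Injective fun x : D.T × D.K => (⟨(x.1 : H) * x.2, D.L.mul_mem (D.T_le x.1.2) (D.K_le x.2.2)⟩ : D.L) := by
    rintro ⟨a, b⟩ ⟨a', b'⟩ e
    have e' : (a : H) * b = a' * b' := congrArg Subtype.val e
    have h1 : (a' : H)⁻¹ * a = b' * (b : H)⁻¹ := by
      rw [eq_mul_inv_iff_mul_eq, mul_assoc, e', inv_mul_cancel_left]
    have h2 := D.eq_one_of_mem (D.T.mul_mem (D.T.inv_mem a'.2) a.2)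
      (h1 ▸ D.K.mul_mem b'.2 (D.K.inv_mem b.2))
    have ha : a' = a := Subtype.ext (inv_mul_eq_one.mp h2)
    subst ha
    exact Prod.ext rfl (Subtype.ext (mul_left_cancel e'))
  rw [← D.Tcard, ← Nat.card_prod]
  refine (Nat.card_congr (Equiv.ofBijective _ ⟨hinj, fun x => ?_⟩)).symm
  obtain ⟨s, hs, k, hk, he⟩ := D.mem_L_iff.mp x.2
  exact ⟨(⟨s, hs⟩, ⟨k, hk⟩), Subtype.ext he.symm⟩

theorem cardH : Nat.card H = 24 * Nat.card D.K := by
  rw [← D.L.index_mul_card, D.cardL, show D.L.index = 3 from D.Lindex]; ring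

theorem Tindex : Odd D.T.index := by
  have h := D.T.index_mul_card
  rw [D.Tcard, D.cardH] at h
  rw [show D.T.index = 3 * Nat.card D.K by omega]
  exact (show Odd 3 by decide).mul D.Kodd

theorem h₀cube : ∀ s ∈ D.T, D.h₀ ^ 3 * s * (D.h₀ ^ 3)⁻¹ = s := by
  intro s hs
  have hmem : D.h₀ ^ 3 ∈ D.L := by
    rw [← show D.L.index = 3 from D.Lindex]
    exact Subgroup.pow_index_mem D.L D.h₀
  obtain ⟨a, ha, k, hk, he⟩ := D.mem_L_iff.mp hmem
  have hn : ∀ (j : ℕ), ∀ x ∈ D.T, D.h₀ ^ j * x * (D.h₀ ^ j)⁻¹ ∈ D.T := by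
    intro j
    induction j with
    | zero => intro x hx; simpa using hx
    | succ j ih =>
      intro x hx
      rw [pow_succ', show D.h₀ * D.h₀ ^ j * x * (D.h₀ * D.h₀ ^ j)⁻¹ =
        D.h₀ * (D.h₀ ^ j * x * (D.h₀ ^ j)⁻¹) * D.h₀⁻¹ by group]
      exact D.h₀T _ (ih x hx)
  have h1 := hn 3 s hs
  rw [he] at h1 ⊢
  have h2 : k * s * k⁻¹ ∈ D.T := by
    have := D.T.mul_mem (D.T.mul_mem (D.T.inv_mem ha) h1) ha
    convert this using 1; group
  have h3 : k * s * k⁻¹ * s⁻¹ = 1 := D.eq_one_of_mem (D.T.mul_mem h2 (D.T.inv_mem hs))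
    (by rw [mul_assoc, mul_assoc, ← mul_assoc s]; exact D.K.mul_mem hk (D.Knormal.conj_mem _ (D.K.inv_mem hk) s))
  rw [show a * k * s * (a * k)⁻¹ = a * (k * s * k⁻¹) * a⁻¹ by group, mul_inv_eq_one.mp h3,
    D.Tcomm a ha s hs, mul_inv_cancel_right]

theorem quotient_cases (g : H) : g ∈ D.L ∨ g * D.h₀⁻¹ ∈ D.L ∨ g * (D.h₀ ^ 2)⁻¹ ∈ D.L := by
  have hcard : Nat.card (H ⧸ D.L) = 3 := D.Lindex
  have hgen : ∀ x : H ⧸ D.L, x ∈ Subgroup.zpowers (D.h₀ : H ⧸ D.L) := by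
    haveI : Fact (Nat.Prime 3) := ⟨Nat.prime_three⟩
    exact fun x => mem_zpowers_of_prime_card hcard
      (fun h => D.h₀L ((QuotientGroup.eq_one_iff _).mp h))
  obtain ⟨j, hj⟩ := (mem_powers_iff_mem_zpowers (x := (D.h₀ : H ⧸ D.L))).mpr (hgen g)
  have h3 : (D.h₀ : H ⧸ D.L) ^ 3 = 1 := hcard ▸ pow_card_eq_one'
  have hj' : (D.h₀ : H ⧸ D.L) ^ (j % 3) = (g : H ⧸ D.L) := by
    rw [← hj]; exact (pow_eq_pow_mod j h3).symm
  have key : ∀ e : ℕ, (D.h₀ : H ⧸ D.L) ^ e = (g : H ⧸ D.L) → g * (D.h₀ ^ e)⁻¹ ∈ D.L := by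
    intro e he
    rw [← QuotientGroup.eq_one_iff, QuotientGroup.mk_mul, QuotientGroup.mk_inv, QuotientGroup.mk_pow,
      he, mul_inv_cancel]
  have := key _ hj'
  have hlt := Nat.mod_lt j (show 3 > 0 by norm_num)
  interval_cases j % 3
  · exact Or.inl (by simpa using this)
  · exact Or.inr (Or.inl (by simpa using this))
  · exact Or.inr (Or.inr this)

/-- Outside `T K` nothing but `1` and `t` is centralized modulo `K`. -/
theorem fix {g : H} (hg : g ∉ D.L) {s : H} (hs : s ∈ D.T) (hgs : g * s * g⁻¹ * s⁻¹ ∈ D.K) :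
    s = 1 ∨ s = D.t := by
  have main : ∀ n : H, (∀ x ∈ D.T, n * x * n⁻¹ ∈ D.T) → g * n⁻¹ ∈ D.L → n * s * n⁻¹ = s := by
    intro n hn hgn
    obtain ⟨a, ha, k, hk, he⟩ := D.mem_L_iff.mp hgn
    have hgeq : g = a * k * n := by rw [← he, inv_mul_cancel_right]
    have hu : n * s * n⁻¹ * s⁻¹ ∈ D.K := by
      have h1 : g * s * g⁻¹ = (a * k * a⁻¹) * (a * (n * s * n⁻¹) * a⁻¹) * (a * k * a⁻¹)⁻¹ := by
        rw [hgeq]; group
      rw [show a * (n * s * n⁻¹) * a⁻¹ = n * s * n⁻¹ by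
        rw [D.Tcomm a ha _ (hn s hs), mul_inv_cancel_right]] at h1
      set k' := a * k * a⁻¹
      set u := n * s * n⁻¹
      have hk' : k' ∈ D.K := D.Knormal.conj_mem k hk a
      rw [h1] at hgs
      have : u * k'⁻¹ * u⁻¹ ∈ D.K := D.Knormal.conj_mem _ (D.K.inv_mem hk') u
      have h2 := D.K.mul_mem (D.K.inv_mem (D.K.mul_mem hk' this)) hgs
      convert h2 using 1; group
    exact mul_inv_eq_one.mp (D.eq_one_of_mem (D.T.mul_mem (hn s hs) (D.T.inv_mem hs)) hu)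
  rcases D.quotient_cases g with h | h | h
  · exact absurd h hg
  · exact D.hfix s hs (main _ D.h₀T h)
  · have hn : ∀ x ∈ D.T, D.h₀ ^ 2 * x * (D.h₀ ^ 2)⁻¹ ∈ D.T := fun x hx => by
      have := D.h₀T _ (D.h₀T x hx)
      convert this using 1; rw [pow_two]; group
    have h2 := main _ hn h
    refine D.hfix s hs ?_
    conv_rhs => rw [← D.h₀cube s hs]
    rw [show D.h₀ ^ 3 * s * (D.h₀ ^ 3)⁻¹ = D.h₀ * (D.h₀ ^ 2 * s * (D.h₀ ^ 2)⁻¹) * D.h₀⁻¹ by group, h2]

/-- A subgroup avoiding an element of an elementary abelian group lies in one of index two. -/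
theorem exists_hom {A : Type*} [CommGroup A] [Finite A] (hA : ∀ a : A, a * a = 1) {B : Subgroup A}
    {w : A} (hw : w ∉ B) : ∃ φ : A →* ℤˣ, φ w = -1 ∧ ∀ b ∈ B, φ b = 1 := by
  classical
  obtain ⟨M, ⟨hBM, hwM⟩, hmax⟩ := Finite.exists_le_maximal (α := Subgroup A) (p := fun M => B ≤ M ∧ w ∉ M) ⟨le_rfl, hw⟩ |>.imp fun M h => h.2
  have hcov : ∀ x, x ∈ M ∨ w * x ∈ M := by
    intro x
    by_cases hx : x ∈ M
    · exact Or.inl hx
    by_contra hne
    simp only [hx, false_or] at hne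
    have hle : M ≤ M ⊔ Subgroup.zpowers x := le_sup_left
    have hw' : w ∉ M ⊔ Subgroup.zpowers x := by
      intro h
      obtain ⟨a, ha, b, hb, hab⟩ := Subgroup.mem_sup.mp h
      obtain ⟨i, rfl⟩ := Subgroup.mem_zpowers_iff.mp hb
      rcases Int.even_or_odd i with ⟨j, rfl⟩ | ⟨j, rfl⟩
      · rw [zpow_add, ← mul_zpow, hA, one_zpow, mul_one] at hab
        exact hwM (hab ▸ ha)
      · rw [two_mul, zpow_add, zpow_add, ← mul_zpow, hA, one_zpow, one_mul, zpow_one] at hab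
        exact hne (by rw [← hab, mul_assoc, hA, mul_one]; exact ha)
    exact hx (hmax ⟨hBM.trans hle, hw'⟩ hle (Subgroup.mem_sup_right (Subgroup.mem_zpowers x)))
  let f : A → ℤˣ := fun a => if a ∈ M then 1 else -1
  have hmul : ∀ a b, f (a * b) = f a * f b := by
    intro a b
    simp only [f]
    by_cases ha : a ∈ M
    · simp [ha, M.mul_mem_cancel_left ha]
    by_cases hb : b ∈ M
    · simp [ha, hb, M.mul_mem_cancel_right hb]
    have h1 := (hcov a).resolve_left ha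
    have h2 := (hcov b).resolve_left hb
    have : a * b ∈ M := by
      have := M.mul_mem h1 h2
      rwa [show w * a * (w * b) = w * w * (a * b) by rw [mul_mul_mul_comm], hA, one_mul] at this
    simp [ha, hb, this]
  exact ⟨MonoidHom.mk' f hmul, by simp [f, hwM], fun b hb => by simp [f, hBM hb]⟩

open MonoidHom in
theorem exists_sigma : ∃ σ : H →* ℤˣ, σ D.t = -1 := by
  classical
  letI : CommGroup D.T :=
    { (inferInstance : Group D.T) with mul_comm := fun a b => Subtype.ext (D.Tcomm a a.2 b b.2) }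
  obtain ⟨φ, hφ, -⟩ := exists_hom (A := D.T) (fun a => Subtype.ext (D.Tsq a a.2)) (B := ⊥)
    (w := ⟨D.t, D.tT⟩) (fun h => D.t1 (congrArg Subtype.val (Subgroup.mem_bot.mp h)))
  refine ⟨transfer φ, ?_⟩
  have key : ∀ (k : ℕ) (g₀ : H), g₀⁻¹ * D.t ^ k * g₀ ∈ D.T → g₀⁻¹ * D.t ^ k * g₀ = D.t ^ k := by
    intro k g₀ _
    rw [mul_assoc, ← ((show Commute g₀ D.t from D.tZ g₀).pow_right k).eq, inv_mul_cancel_left]
  rw [transfer_eq_pow φ D.t key]
  obtain ⟨j, hj⟩ := D.Tindex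
  rw [show (⟨D.t ^ D.T.index, _⟩ : D.T) = ⟨D.t, D.tT⟩ from Subtype.ext (by
    show D.t ^ D.T.index = D.t
    rw [hj, pow_succ, pow_mul, pow_two, D.Tsq _ D.tT, one_pow, one_mul]), hφ]

open MonoidHom in
theorem exists_mu : ∃ μ : D.L →* ℤˣ, μ ⟨D.t, D.t_memL⟩ = 1 ∧ ∃ s : D.L, (s : H) ∈ D.T ∧ μ s = -1 := by
  classical
  set T' := D.T.subgroupOf D.L with hT'
  have hmem : ∀ x : D.L, x ∈ T' ↔ (x : H) ∈ D.T := fun x => Subgroup.mem_subgroupOf
  letI : CommGroup T' :=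
    { (inferInstance : Group T') with
      mul_comm := fun a b => Subtype.ext (Subtype.ext (D.Tcomm _ a.2 _ b.2)) }
  set t' : T' := ⟨⟨D.t, D.t_memL⟩, D.tT⟩ with ht'
  have ht2 : t' * t' = 1 := Subtype.ext (Subtype.ext (D.Tsq _ D.tT))
  obtain ⟨w, hw⟩ : ∃ w : T', w ∉ Subgroup.zpowers t' := by
    by_contra! hall
    have h1 : Nat.card T' ≤ Nat.card (Subgroup.zpowers t') :=
      Nat.card_le_card_of_injective (fun x => ⟨x, hall x⟩) fun a b e => congrArg Subtype.val e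
    rw [Nat.card_zpowers, Nat.card_congr (Subgroup.subgroupOfEquivOfLe D.T_le).toEquiv, D.Tcard] at h1
    have : orderOf t' ≤ 2 := orderOf_le_of_pow_eq_one two_pos (by rw [pow_two]; exact ht2)
    omega
  obtain ⟨ψ, hψw, hψt⟩ := exists_hom (A := T') (fun a => Subtype.ext (Subtype.ext (D.Tsq _ a.2))) hw
  have key : ∀ x : T', transfer ψ (x : D.L) = ψ x := by
    intro x
    have k1 : ∀ (k : ℕ) (g₀ : D.L), g₀⁻¹ * (x : D.L) ^ k * g₀ ∈ T' →
        g₀⁻¹ * (x : D.L) ^ k * g₀ = (x : D.L) ^ k := by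
      intro k g₀ hg
      apply Subtype.ext
      have hy : ((x : H)) ^ k ∈ D.T := D.T.pow_mem x.2 k
      rw [hmem] at hg
      simp only [Subgroup.coe_mul, InvMemClass.coe_inv, SubmonoidClass.coe_pow] at hg ⊢
      set y := ((x : D.L) : H) ^ k
      obtain ⟨a, ha, b, hb, he⟩ := D.mem_L_iff.mp g₀.2
      rw [he] at hg ⊢
      have e : (a * b)⁻¹ * y * (a * b) = b⁻¹ * y * b := by
        rw [show (a * b)⁻¹ * y * (a * b) = b⁻¹ * (a⁻¹ * (y * a)) * b by group, D.Tcomm y hy a ha,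
          inv_mul_cancel_left]
      rw [e] at hg ⊢
      refine mul_inv_eq_one.mp (D.eq_one_of_mem (D.T.mul_mem hg (D.T.inv_mem hy)) ?_)
      rw [mul_assoc, mul_assoc, ← mul_assoc y]
      exact D.K.mul_mem (D.K.inv_mem hb) (D.Knormal.conj_mem _ hb y)
    rw [transfer_eq_pow ψ (x : D.L) k1]
    congr 1
    apply Subtype.ext
    have hidx : Odd T'.index := by
      have h := T'.index_mul_card
      rw [Nat.card_congr (Subgroup.subgroupOfEquivOfLe D.T_le).toEquiv, D.Tcard, D.cardL] at h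
      rw [show T'.index = Nat.card D.K by omega]
      exact D.Kodd
    obtain ⟨j, hj⟩ := hidx
    show (x : D.L) ^ T'.index = x
    rw [hj, pow_succ, pow_mul, pow_two]
    have : (x : D.L) * x = 1 := Subtype.ext (D.Tsq _ x.2)
    rw [this, one_pow, one_mul]
  exact ⟨transfer ψ, (key t').trans (hψt _ (Subgroup.mem_zpowers t')),
    (w : D.L), w.2, (key w).trans hψw⟩

theorem exists_lam : ∃ lam : H →* ℂ, (∀ h, lam h = 1 ↔ h ∈ D.L) ∧ ∀ h, lam h ^ 3 = 1 := by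
  classical
  obtain ⟨ω, hω⟩ : ∃ ω : ℂˣ, orderOf ω = 3 := by
    have hp := Complex.isPrimitiveRoot_exp 3 (by norm_num)
    exact ⟨(hp.isUnit (by norm_num)).unit, by
      rw [← orderOf_units, IsUnit.unit_spec, ← hp.eq_orderOf]⟩
  haveI : Fact (Nat.Prime 3) := ⟨Nat.prime_three⟩
  have hcard : Nat.card (H ⧸ D.L) = 3 := D.Lindex
  have hne : (D.h₀ : H ⧸ D.L) ≠ 1 := fun h => D.h₀L ((QuotientGroup.eq_one_iff _).mp h)
  have hgen : ∀ x : H ⧸ D.L, x ∈ Subgroup.zpowers (D.h₀ : H ⧸ D.L) :=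
    fun x => mem_zpowers_of_prime_card hcard hne
  have ho : orderOf (D.h₀ : H ⧸ D.L) = 3 := by
    rw [orderOf_eq_card_of_forall_mem_zpowers hgen, hcard]
  set f : H ⧸ D.L →* ℂˣ := monoidHomOfForallMemZpowers hgen (g' := ω) (by rw [hω, ho]) with hf
  refine ⟨((Units.coeHom ℂ).comp f).comp (QuotientGroup.mk' D.L), fun h => ?_, fun h => ?_⟩
  · simp only [MonoidHom.coe_comp, Function.comp_apply, QuotientGroup.mk'_apply, Units.coeHom_apply,
      Units.val_eq_one]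
    refine ⟨fun he => ?_, fun he => by rw [(QuotientGroup.eq_one_iff h).mpr he, map_one]⟩
    obtain ⟨j, hj⟩ := Subgroup.mem_zpowers_iff.mp (hgen h)
    rw [← hj, map_zpow, monoidHomOfForallMemZpowers_apply_gen, ← orderOf_dvd_iff_zpow_eq_one, hω,
      ← ho, orderOf_dvd_iff_zpow_eq_one, hj] at he
    exact (QuotientGroup.eq_one_iff h).mp he
  · simp only [MonoidHom.coe_comp, Function.comp_apply, QuotientGroup.mk'_apply, Units.coeHom_apply]
    rw [← Units.val_pow_eq_pow_val, ← map_pow, ← hcard, pow_card_eq_one', map_one, Units.val_one]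

end Loc

end Cfsg.Agent.InvChar68.Eight
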