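import Cfsg.Agent.ZStar.BlocksAbelian

/-!
# Characters outside the principal block on the section of a `p`-element
-/

set_option autoImplicit false

open Cfsg Cfsg.Agent.ZStar

namespace Cfsg.Agent.InvChar68.Eight

variable {G : Type*} [Group G] [Fintype G] [DecidableEq G] {p : ℕ} {M : Ideal AlgInt}
variable [Fact p.Prime] {u : G} {K : Subgroup G}

/-- If every character of `C(u) / K` lies in the principal block of `C(u)`, a character outside the
principal block averages to zero on each coset `u y K`. -/
theorem sum_eq_zero_of_oneBlock (hM : IsPModular p M) (h : SectionData p u K)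
    (hone : ∀ ξ : IrrCharacter (Subgroup.centralizer ({u} : Set G)),
      (∀ k : Subgroup.centralizer ({u} : Set G), (k : G) ∈ K → ∀ c, (ξ : _ → ℂ) (c * k) = (ξ : _ → ℂ) c) →
      SameBlock M (fun _ : Subgroup.centralizer ({u} : Set G) => (1 : ℂ)) (ξ : _ → ℂ))
    {y : G} (hyC : y ∈ Subgroup.centralizer ({u} : Set G)) (hy : ¬ p ∣ orderOf y)
    {χ : IrrCharacter G} (hχ : χ ∉ principalBlock M G) :
    ∑ᶠ k : K, (χ : G → ℂ) (u * y * k) = 0 := by
  classical
  have := BlocksCore.isPrime hM
  haveI := Fintype.ofFinite (Subgroup.centralizer ({u} : Set G))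
  have hB : IsPBlock M (blockOf M (χ : G → ℂ)) := BlocksCore.isPBlock_blockOf χ
  have hne : blockOf M (χ : G → ℂ) ≠ principalBlock M G := fun he =>
    hχ (he ▸ BlocksCore.mem_blockOf_self χ)
  set e := blockCoeff (blockOf M (χ : G → ℂ))
  have he : BlocksCore.IsIntClassFun M e := BlocksCore.isIntClassFun_blockCoeff hM hB
  have hee : BlocksCore.conv e e = e := BlocksCore.conv_blockCoeff_self _
  have huC : u ∈ (Subgroup.centralizer ({u} : Set G)) := by
    rw [Subgroup.mem_centralizer_singleton_iff]
  have hsmall := small_on_centralizer hM h e (avgFun K) he hee (avgFun_memLocalRing hM h.coprime)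
    (fun g hg => avgFun_apply_notMem fun hk => hg (h.le hk))
    (fun x hx => avgFun_conjInv (h.normal hx)) (conv_avgFun_self K) (by
    intro ξ
    rw [res_avgFun h.le]
    rcases omega_avg hM h ξ with ⟨h1, htriv⟩ | ⟨h1, -⟩
    · rw [h1, mul_one]
      rcases omega_res_blockCoeff hM h.pow hB ξ with ⟨⟨-, h2⟩, -⟩ | ⟨h2, -⟩
      · exact absurd (h2 (hone ξ htriv)) hne
      · exact h2
    · rw [h1, mul_zero]; exact BlocksCore.memLocalIdeal_zero)
  set a := BlocksCore.conv e (avgFun K) with ha
  have haa : BlocksCore.conv a a = a := by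
    rw [ha]
    calc BlocksCore.conv (BlocksCore.conv e (avgFun K)) (BlocksCore.conv e (avgFun K))
        = BlocksCore.conv e (BlocksCore.conv (BlocksCore.conv (avgFun K) e) (avgFun K)) := by
          simp only [conv_assoc']
      _ = BlocksCore.conv e (BlocksCore.conv (BlocksCore.conv e (avgFun K)) (avgFun K)) := by
          rw [conv_comm_class he.1 (avgFun K)]
      _ = BlocksCore.conv (BlocksCore.conv e e) (BlocksCore.conv (avgFun K) (avgFun K)) := by
          simp only [conv_assoc']
      _ = _ := by rw [hee, conv_avgFun_self]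
  have h0 := sum_mul_translate_eq_zero hM (u := u) (y := y) (a := a)
    (h.pow.imp fun k hk => hk.dvd) hy
    (Subgroup.mem_centralizer_singleton_iff.mp hyC).symm
    (conv_memLocalRing he.2 (avgFun_memLocalRing hM h.coprime)) haa
    (conjInv_conv (conjInv_of_class he.1 u) (avgFun_conjInv (h.normal huC)))
    (conjInv_conv (conjInv_of_class he.1 y) (avgFun_conjInv (h.normal hyC)))
    hsmall (BlocksCore.irr_class χ)
  rw [ha, sum_conv_blockCoeff_mul, Set.indicator_of_mem (BlocksCore.mem_blockOf_self χ),
    Pi.one_apply, one_mul, sum_avgFun K fun z => (χ : G → ℂ) (u * y * z)] at h0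
  exact (mul_eq_zero.mp h0).resolve_left (inv_ne_zero (Nat.cast_ne_zero.mpr Nat.card_pos.ne'))

end Cfsg.Agent.InvChar68.Eight
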