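import Cfsg.Agent.InvChar68.Eight.Combi
import Cfsg.Agent.InvChar68.Eight.Functions
import Cfsg.Agent.InvChar68.Eight.Automizer
import Cfsg.Agent.InvChar68.Eight.Outside
import Cfsg.Agent.InvChar68.CharTools
import Cfsg.Agent.CharDeep.Deg.Basic
import Cfsg.Agent.Blocks88.Modular
import Cfsg.Agent.Lib.BlocksDefect.PrincipalSection

/-!
# The automizer of order twenty-one is impossible with solvable involution centralizers
-/

set_option autoImplicit false
set_option linter.unusedSectionVars false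
set_option linter.style.haveILetI false

open Cfsg
open scoped ComplexConjugate

namespace Cfsg.Agent.InvChar68.Eight

namespace Loc

variable {H : Type*} [Group H] [Fintype H] (D : Loc H)

theorem pow_eq_t_of_tK {g : H} (h : D.t * g ∈ D.K) : g ^ (3 * Nat.card D.K) = D.t := by
  set k : D.K := ⟨D.t * g, h⟩
  have e : g = D.t * (k : H) := by show g = D.t * (D.t * g); rw [← mul_assoc, D.tt, one_mul]
  have hk : (k : H) ^ (3 * Nat.card D.K) = 1 := by
    rw [mul_comm 3, pow_mul, ← SubmonoidClass.coe_pow, pow_card_eq_one', OneMemClass.coe_one, one_pow]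
  rw [e, (show Commute D.t (k : H) from (D.tZ _).symm).mul_pow, hk, mul_one]
  obtain ⟨j, hj⟩ := (show Odd 3 by decide).mul D.Kodd
  rw [hj, pow_succ, pow_mul, pow_two, D.tt, one_pow, one_mul]

theorem pow_eq_t_of_InT {g : H} (h : D.InT g) : g ^ (3 * Nat.card D.K) = D.t := by
  have h3 : g ^ 3 ∈ D.L := by
    rw [← show D.L.index = 3 from D.Lindex]
    exact Subgroup.pow_index_mem D.L g
  obtain ⟨s, hs, k, hk, he⟩ := D.mem_L_iff.mp h3
  have hgg : g * (s * k) * g⁻¹ = s * k := by rw [← he, ← pow_succ', pow_succ, mul_inv_cancel_right]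
  have hK : g * s * g⁻¹ * s⁻¹ ∈ D.K := by
    have h1 : g * s * g⁻¹ * s⁻¹ = s * (k * (g * k⁻¹ * g⁻¹)) * s⁻¹ := by
      calc g * s * g⁻¹ * s⁻¹ = g * (s * k) * g⁻¹ * (g * k⁻¹ * g⁻¹) * s⁻¹ := by group
        _ = _ := by rw [hgg]; group
    rw [h1]
    exact D.Knormal.conj_mem _ (D.K.mul_mem hk (D.Knormal.conj_mem _ (D.K.inv_mem hk) g)) s
  have hσ : D.sigma s = -1 := by
    have h1 := congrArg D.sigma he
    rw [map_pow, h.1, map_mul, D.sigma_K hk, mul_one] at h1
    rw [← h1]; rfl
  rcases D.fix h.2 hs hK with rfl | rfl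
  · rw [map_one] at hσ; exact absurd hσ (by decide)
  · rw [pow_mul, he]
    have hk1 : k ^ Nat.card D.K = 1 := by
      exact congrArg Subtype.val (pow_card_eq_one' (x := (⟨k, hk⟩ : D.K)))
    rw [(show Commute D.t k from (D.tZ _).symm).mul_pow, hk1, mul_one]
    obtain ⟨j, hj⟩ := D.Kodd
    rw [hj, pow_succ, pow_mul, pow_two, D.tt, one_pow, one_mul]

theorem pow_eq_t {i : Fin 3} {g : H} (h : D.f i g ≠ 0) : g ^ (3 * Nat.card D.K) = D.t := by
  classical
  by_cases h1 : D.t * g ∈ D.K
  · exact D.pow_eq_t_of_tK h1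
  by_cases h2 : D.InT g
  · exact D.pow_eq_t_of_InT h2
  · exact absurd (by simp [f, h1, h2]) h

theorem f_mul_K (i : Fin 3) (g : H) {k : H} (hk : k ∈ D.K) : D.f i (g * k) = D.f i g := by
  classical
  have h1 : D.t * (g * k) ∈ D.K ↔ D.t * g ∈ D.K := by rw [← mul_assoc, D.K.mul_mem_cancel_right hk]
  have h2 : D.InT (g * k) ↔ D.InT g := by
    rw [InT, InT, map_mul, D.sigma_K hk, mul_one, D.L.mul_mem_cancel_right (D.K_le hk)]
  have h3 : D.lam (g * k) = D.lam g := by
    rw [map_mul, D.lam_eq_one.mpr (D.K_le hk), mul_one]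
  simp only [f, h1, h2, h3]

end Loc

variable {G : Type*} [Group G] [Fintype G]

theorem no_twentyone [IsSimpleGroup G] (hG : ¬ IsMulCommutative G) (P : Sylow 2 G)
    (h8 : Nat.card (P : Subgroup G) = 8)
    (hc : ∀ a ∈ (P : Subgroup G), ∀ b ∈ (P : Subgroup G), a * b = b * a)
    (hsq : ∀ a ∈ (P : Subgroup G), a * a = 1) (t : (P : Subgroup G)) (ht : t ≠ 1)
    (hconj : ∀ s : (P : Subgroup G), s ≠ 1 → IsConj (t : G) s)
    (hst : Nat.card (MulAction.stabilizer (aut (P : Subgroup G)) t) = 3)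
    (hsol : Group.IsSolvable (Subgroup.centralizer ({(t : G)} : Set G))) : False := by
  classical
  haveI : Fact (Nat.Prime 2) := ⟨Nat.prime_two⟩
  obtain ⟨M, hM⟩ := Blocks88.exists_isPModular Nat.prime_two
  have hMp := BlocksCore.isPrime hM
  set C := Subgroup.centralizer ({(t : G)} : Set G) with hC
  obtain ⟨D, hDt, -, -⟩ := exists_loc P h8 hc hsq t ht hst hsol
  set m := Nat.card D.K with hm
  set KG := D.K.map C.subtype with hKG
  have ht2 : orderOf (t : G) = 2 :=
    orderOf_eq_prime (by rw [pow_two]; exact hsq _ t.2) fun h => ht (Subtype.ext h)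
  have hsd : ZStar.SectionData 2 (t : G) KG := by
    refine ⟨⟨1, by rw [ht2, pow_one]⟩, Subgroup.map_subtype_le _, fun c hc' => ?_, ?_⟩
    · rw [Subgroup.mem_normalizer_iff]
      intro g
      constructor
      · rintro ⟨y, hy, rfl⟩
        exact ⟨⟨c, hc'⟩ * y * ⟨c, hc'⟩⁻¹, D.Knormal.conj_mem y hy _, by simp⟩
      · rintro ⟨y, hy, hye⟩
        refine ⟨⟨c, hc'⟩⁻¹ * y * ⟨c, hc'⟩, by simpa using D.Knormal.conj_mem y hy ⟨c, hc'⟩⁻¹, ?_⟩
        simp only [Subgroup.coe_subtype, Subgroup.coe_mul, InvMemClass.coe_inv] at hye ⊢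
        rw [hye]; group
    · rw [hKG, Subgroup.card_map_of_injective (Subgroup.subtype_injective _), Nat.two_dvd_ne_zero,
        ← Nat.odd_iff]
      exact D.Kodd
  -- every character of `C / K` is in the principal block
  have hone : ∀ ξ : IrrCharacter C,
      (∀ k : C, (k : G) ∈ KG → ∀ c, (ξ : C → ℂ) (c * k) = (ξ : C → ℂ) c) →
      SameBlock M (fun _ : C => (1 : ℂ)) (ξ : C → ℂ) := by
    intro ξ hξ g
    have hker : ∀ k ∈ D.K, (ξ : C → ℂ) k = (ξ : C → ℂ) 1 := fun k hk => by
      conv_lhs => rw [← one_mul k]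
      exact hξ k ⟨k, hk, rfl⟩ 1
    obtain ⟨d, hd0, hd⟩ := CharCore.IsIrrCharacter.exists_degree ξ.2
    have hdodd : ¬ 2 ∣ d := by
      obtain ⟨ψ, -, hψirr, hψ⟩ := CharCore.IsCharacter.exists_quotient
        (CharCore.IsIrrCharacter.isCharacter ξ.2) D.K hker
      set A := D.L.map (QuotientGroup.mk' D.K) with hA
      haveI : A.Normal := D.Lnormal.map _ (QuotientGroup.mk'_surjective _)
      have hAab : ∀ a ∈ A, ∀ b ∈ A, a * b = b * a := by
        rintro _ ⟨a, ha, rfl⟩ _ ⟨b, hb, rfl⟩
        obtain ⟨s, hs, k, hk, rfl⟩ := D.mem_L_iff.mp ha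
        obtain ⟨s', hs', k', hk', rfl⟩ := D.mem_L_iff.mp hb
        have e : ∀ x ∈ D.K, QuotientGroup.mk' D.K x = 1 := fun x hx => (QuotientGroup.eq_one_iff x).mpr hx
        rw [map_mul, map_mul, e k hk, e k' hk', mul_one, mul_one, ← map_mul, ← map_mul,
          D.Tcomm s hs s' hs']
      have h3 := CharDeep.Deg.degree_dvd_index ⟨ψ, hψirr ξ.2⟩ A hAab
      have h1 : ψ 1 = (d : ℂ) := by rw [← hd, hψ 1, map_one]
      rw [CharDeep.Deg.degree_of_eq h1, hA, Subgroup.index_map_eq _ (QuotientGroup.mk'_surjective _)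
        (by rw [QuotientGroup.ker_mk']; exact D.K_le), show D.L.index = 3 from D.Lindex] at h3
      intro h2
      have := Nat.dvd_trans h2 h3
      omega
    have hd' : (d : ℂ) ≠ 0 := Nat.cast_ne_zero.mpr hd0.ne'
    have hinv : MemLocalRing M (d : ℂ)⁻¹ := BlocksCore.memLocalRing_natCast_inv hM hdodd
    have htwo : MemLocalIdeal M (2 : ℂ) := by
      have := (BlocksCore.memLocalIdeal_natCast_iff hM 2).mpr dvd_rfl
      simpa using this
    simp only [centralChar, mul_one, div_one, hd]
    set idx := (Subgroup.centralizer ({g} : Set C)).index with hidx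
    have hrw : (idx : ℂ) - idx * (ξ : C → ℂ) g / d = idx * (((d : ℂ) - (ξ : C → ℂ) g) * (d : ℂ)⁻¹) := by
      field_simp
    rw [hrw]
    by_cases hgL : g ∈ D.L
    · obtain ⟨s, hs, k, hk, rfl⟩ := D.mem_L_iff.mp hgL
      rw [hξ k ⟨k, hk, rfl⟩ s]
      refine BlocksCore.memLocalIdeal_mul_left (BlocksCore.memLocalRing_natCast _)
        (BlocksCore.memLocalIdeal_mul_right ?_ hinv)
      by_cases hs1 : s = 1
      · rw [hs1, hd, sub_self]; exact BlocksCore.memLocalIdeal_zero
      · obtain ⟨a, ha, ⟨z, hz⟩⟩ := exists_int_value_involution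
          (orderOf_eq_prime (by rw [pow_two]; exact D.Tsq s hs) hs1) ξ hd
        rw [ha, show (d : ℂ) - (a : ℂ) = 2 * (((d : ℤ) - z : ℤ) : ℂ) by
          have : (a : ℂ) + d = 2 * z := by exact_mod_cast hz
          push_cast; linear_combination -this]
        exact BlocksCore.memLocalIdeal_mul_right htwo (intCast_mem (BlocksCore.localRing M) _)
    · have heven : 2 ∣ idx := by
        by_contra hne
        set Cg := Subgroup.centralizer ({g} : Set C) with hCg
        obtain ⟨Q⟩ := (inferInstance : Nonempty (Sylow 2 Cg))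
        have hQp : IsPGroup 2 ((Q : Subgroup Cg).map Cg.subtype) := Q.isPGroup'.map _
        have hQi : ¬ 2 ∣ ((Q : Subgroup Cg).map Cg.subtype).index := by
          rw [Subgroup.index_map_subtype, Nat.prime_two.dvd_mul]
          rintro (h | h)
          · exact Q.not_dvd_index h
          · exact hne h
        set Q' := hQp.toSylow hQi with hQ'
        have hTi : ¬ 2 ∣ D.T.index := Nat.two_dvd_ne_zero.mpr (Nat.odd_iff.mp D.Tindex)
        set T' := (show IsPGroup 2 D.T from IsPGroup.of_card (n := 3) (by rw [D.Tcard]; rfl)).toSylow hTi with hT'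
        obtain ⟨x, hx⟩ := MulAction.exists_smul_eq C T' Q'
        have hcen : ∀ s ∈ D.T, x * s * x⁻¹ * g = g * (x * s * x⁻¹) := by
          intro s hs
          have : x * s * x⁻¹ ∈ (Q' : Subgroup C) := by
            rw [← hx, Sylow.coe_subgroup_smul, Subgroup.mem_pointwise_smul_iff_inv_smul_mem]
            have e : (MulAut.conj x)⁻¹ • (x * s * x⁻¹) = s := by
              simp [MulAut.smul_def, mul_assoc]
            exact e.symm ▸ hs
          obtain ⟨y, -, hy⟩ := this
          rw [← hy]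
          exact Subgroup.mem_centralizer_singleton_iff.mp y.2
        have hgx : x⁻¹ * g * x ∉ D.L := fun h => hgL (by
          have := (Loc.instLnormal D).conj_mem _ h x
          rwa [show x * (x⁻¹ * g * x) * x⁻¹ = g by group] at this)
        have hall : ∀ s ∈ D.T, s = 1 ∨ s = D.t := by
          intro s hs
          refine D.fix hgx hs ?_
          have e : x⁻¹ * g * x * s * (x⁻¹ * g * x)⁻¹ * s⁻¹ = 1 := by
            calc x⁻¹ * g * x * s * (x⁻¹ * g * x)⁻¹ * s⁻¹
                = x⁻¹ * (g * (x * s * x⁻¹)) * g⁻¹ * x * s⁻¹ := by group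
              _ = x⁻¹ * (x * s * x⁻¹ * g) * g⁻¹ * x * s⁻¹ := by rw [hcen s hs]
              _ = 1 := by group
          rw [e]; exact D.K.one_mem
        have hle : D.T ≤ Subgroup.zpowers D.t := fun s hs => by
          rcases hall s hs with rfl | rfl
          · exact one_mem _
          · exact Subgroup.mem_zpowers _
        have h1 := Subgroup.card_dvd_of_le hle
        rw [D.Tcard, Nat.card_zpowers, orderOf_eq_prime (p := 2) (by rw [pow_two]; exact D.tt) D.t1] at h1
        norm_num at h1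
      refine BlocksCore.memLocalIdeal_mul_right ((BlocksCore.memLocalIdeal_natCast_iff hM idx).mpr heven) ?_
      exact (BlocksCore.localRing M).mul_mem ((BlocksCore.localRing M).sub_mem
        (BlocksCore.memLocalRing_natCast d) (BlocksCore.memLocalRing_of_isIntegral (BlocksCore.isIntegral_irr ξ g))) hinv
  -- integer coefficients
  have hθ : ∀ χ : IrrCharacter G, IsGeneralizedCharacter C (fun c : C => (χ : G → ℂ) c) := fun χ =>
    CharCore.isGeneralized_restrict (CharCore.irr_isGeneralized χ) C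
  choose c hcv using fun (χ : IrrCharacter G) (i : Fin 3) => D.f_int (hθ χ) i
  let F : Fin 3 → G → ℂ := fun i => indFun C (D.f i)
  have hFcl : ∀ i, IsClassFunction G (F i) := fun i => CharInd.isClassFunction_indFun C _
  have hFc : ∀ i χ, classInner (F i) ((χ : IrrCharacter G) : G → ℂ) = (c χ i : ℂ) := by
    intro i χ
    rw [CharInd.classInner_indFun_left C _ (CharCore.irr_isClassFunction χ), ← CharInd.classInner_swap,
      hcv χ i, map_intCast]
  have hsupp : ∀ i (g : C), D.f i g ≠ 0 → ((g : G)) ^ (3 * m) = t := fun i g hg => by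
    rw [← hDt, ← D.pow_eq_t hg, SubmonoidClass.coe_pow]
  have hFsupp : ∀ i j (g : C), D.f i g ≠ 0 → F j g = D.f j g := by
    intro i j g hg
    show indFun C (D.f j) g = _
    rw [CharInd.indFun_apply]
    have hterm : ∀ x : G, extendByZero C (D.f j) (x⁻¹ * g * x) = if x ∈ C then D.f j g else 0 := by
      intro x
      by_cases hx : x ∈ C
      · rw [if_pos hx, CharInd.extendByZero_mem _ (mul_mem (mul_mem (inv_mem hx) g.2) hx)]
        have := D.isClassFunction_f j g (⟨x, hx⟩ : C)⁻¹
        rw [inv_inv] at this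
        exact this
      · rw [if_neg hx]
        by_cases hmem : x⁻¹ * g * x ∈ C
        · rw [CharInd.extendByZero_mem _ hmem]
          by_contra hne
          refine hx ?_
          have h1 := hsupp j ⟨_, hmem⟩ hne
          have h2 : x⁻¹ * (g : G) ^ (3 * m) * x = t := by
            have h3 : (x⁻¹ * (g : G) * x⁻¹⁻¹) ^ (3 * m) = x⁻¹ * (g : G) ^ (3 * m) * x⁻¹⁻¹ := conj_pow
            simp only [inv_inv] at h3
            exact h3.symm.trans h1
          rw [hsupp i g hg] at h2
          rw [hC, Subgroup.mem_centralizer_singleton_iff]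
          calc x * (t : G) = x * (x⁻¹ * (t : G) * x) := by rw [h2]
            _ = (t : G) * x := by group
        · rw [CharInd.extendByZero_notMem _ hmem]
    simp only [hterm, Finset.sum_ite, Finset.sum_const_zero, add_zero, Finset.sum_const, nsmul_eq_mul]
    rw [show (Finset.univ.filter fun x : G => x ∈ C).card = Nat.card C by
      rw [← Fintype.card_subtype, ← Nat.card_eq_fintype_card], ← mul_assoc,
      inv_mul_cancel₀ (Nat.cast_ne_zero.mpr Nat.card_pos.ne'), one_mul]
  have hgram : ∀ i j, ∑ χ : IrrCharacter G, c χ i * c χ j = if i = j then 4 else 2 := by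
    intro i j
    have h1 := CharCore.classInner_eq_sum (hFcl i) (hFcl j)
    simp only [hFc, map_intCast] at h1
    have h2 : classInner (F i) (F j) = if i = j then 4 else 2 := by
      rw [CharInd.classInner_indFun_left C _ (hFcl j), ← D.gram i j]
      simp only [classInner]
      congr 1
      refine Finset.sum_congr rfl fun g _ => ?_
      by_cases hg : D.f i g = 0
      · rw [hg, zero_mul, zero_mul]
      · rw [hFsupp i j g hg]
    rw [h2] at h1
    have h3 : ((∑ χ : IrrCharacter G, c χ i * c χ j : ℤ) : ℂ) = ((if i = j then 4 else 2 : ℤ) : ℂ) := by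
      push_cast; rw [← h1]
    exact_mod_cast h3
  choose deg hdeg0 hdeg using fun χ : IrrCharacter G => CharCore.IsIrrCharacter.exists_degree χ.2
  have hdegsum : ∀ i, ∑ χ : IrrCharacter G, c χ i * (deg χ : ℤ) = 0 := by
    intro i
    have h1 := congrFun (CharCore.eq_sum_classInner (hFcl i)) 1
    simp only [Finset.sum_apply, Pi.smul_apply, smul_eq_mul, hFc, hdeg] at h1
    have h0 : F i 1 = 0 := by
      show indFun C (D.f i) 1 = 0
      rw [CharInd.indFun_apply_one]
      have : D.f i 1 = 0 := by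
        by_contra hne
        have h := D.pow_eq_t hne
        rw [one_pow] at h
        exact D.t1 h.symm
      rw [this, mul_zero]
    rw [h0] at h1
    exact_mod_cast h1.symm
  -- membership in the principal block and the value at `t`
  have houtside : ∀ χ : IrrCharacter G, χ ∉ principalBlock M G → ∀ i, c χ i = 0 := by
    intro χ hχ i
    have hinner : classInner (fun g : C => (χ : G → ℂ) g) (D.f i) = 0 := by
      have hm0 : (m : ℂ) ≠ 0 := Nat.cast_ne_zero.mpr Nat.card_pos.ne'
      rw [classInner]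
      refine mul_eq_zero_of_right _ ((mul_eq_zero.mp ?_).resolve_left hm0)
      have hshift : ∀ k : D.K, ∑ g : C, (χ : G → ℂ) g * conj (D.f i g) =
          ∑ g : C, (χ : G → ℂ) (g * (k : C) : C) * conj (D.f i g) := by
        intro k
        refine (Fintype.sum_equiv (Equiv.mulRight (k : C)) _ _ fun g => ?_).symm
        rw [Equiv.coe_mulRight, D.f_mul_K i g k.2]
      have : (m : ℂ) * ∑ g : C, (χ : G → ℂ) g * conj (D.f i g) =
          ∑ g : C, conj (D.f i g) * ∑ k : D.K, (χ : G → ℂ) (g * (k : C) : C) := by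
        rw [hm, Nat.card_eq_fintype_card, ← nsmul_eq_mul, ← Finset.card_univ, ← Finset.sum_const,
          Finset.sum_congr rfl fun k _ => hshift k, Finset.sum_comm]
        exact Finset.sum_congr rfl fun g _ => by
          rw [Finset.mul_sum]; exact Finset.sum_congr rfl fun k _ => mul_comm _ _
      rw [this]
      refine Finset.sum_eq_zero fun g _ => ?_
      by_cases hg : D.f i g = 0
      · rw [hg, map_zero, zero_mul]
      refine mul_eq_zero_of_right _ ?_
      set y : G := (t : G) * g with hy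
      have hcomm : Commute (t : G) (g : G) := (Subgroup.mem_centralizer_singleton_iff.mp g.2).symm
      have hyC : y ∈ C := mul_mem (Subgroup.mem_centralizer_singleton_iff.mpr rfl) g.2
      have hyodd : ¬ 2 ∣ orderOf y := by
        have hodd : Odd (3 * m) := (show Odd 3 by decide).mul D.Kodd
        have h1 : y ^ (3 * m) = 1 := by
          obtain ⟨j, hj⟩ := hodd
          rw [hy, hcomm.mul_pow, hsupp i g hg, hj, pow_succ, pow_mul, pow_two, hsq _ t.2, one_pow,
            one_mul, hsq _ t.2]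
        intro h2
        exact (Nat.not_even_iff_odd.mpr hodd) (even_iff_two_dvd.mpr (h2.trans (orderOf_dvd_of_pow_eq_one h1)))
      have h0 := sum_eq_zero_of_oneBlock hM hsd hone hyC hyodd hχ
      haveI := Fintype.ofFinite KG
      rw [finsum_eq_sum_of_fintype] at h0
      rw [← h0]
      refine Fintype.sum_equiv (D.K.equivMapOfInjective C.subtype (Subgroup.subtype_injective C)).toEquiv _ _
        fun k => ?_
      rw [show (t : G) * y = (g : G) by rw [hy, ← mul_assoc, hsq _ t.2, one_mul]]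
      rfl
    rw [hcv χ i] at hinner
    exact_mod_cast hinner
  have hvalue : ∀ χ : IrrCharacter G, χ ∈ principalBlock M G →
      (χ : G → ℂ) t = ((c χ 0 + c χ 1 + c χ 2 : ℤ) : ℂ) := by
    intro χ hχ
    push_cast
    rw [← hcv χ 0, ← hcv χ 1, ← hcv χ 2]
    simp only [classInner]
    rw [← mul_add, ← mul_add, ← Finset.sum_add_distrib, ← Finset.sum_add_distrib]
    have hg : ∀ g : C, (χ : G → ℂ) g * conj (D.f 0 g) + (χ : G → ℂ) g * conj (D.f 1 g) +
        (χ : G → ℂ) g * conj (D.f 2 g) = if D.t * g ∈ D.K then 24 * (χ : G → ℂ) t else 0 := by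
      intro g
      rw [← mul_add, ← mul_add, ← map_add, ← map_add, D.f_sum g]
      split_ifs with h
      · rw [map_ofNat, mul_comm (24 : ℂ)]
        congr 1
        have := ZStar.apply_mul_eq hM hsd hχ (v := ((D.t * g : C) : G)) ⟨_, h, rfl⟩
        rw [← this]
        congr 1
        rw [Subgroup.coe_mul, hDt, ← mul_assoc, hsq _ t.2, one_mul]
      · rw [map_zero, mul_zero]
    rw [Finset.sum_congr rfl fun g _ => hg g, ← Finset.sum_filter, Finset.sum_const, nsmul_eq_mul,
      D.card_tK, D.cardH]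
    have hm0 : (Nat.card D.K : ℂ) ≠ 0 := Nat.cast_ne_zero.mpr Nat.card_pos.ne'
    push_cast
    field_simp
  -- the class equation on the section
  have hpairs : ∀ g : C, D.InT g →
      ∑ χ : IrrCharacter G, (χ : G → ℂ) t ^ 2 * conj ((χ : G → ℂ) g) / (χ : G → ℂ) 1 = 0 := by
    intro g hg
    have hnone : IsEmpty {p : G × G // IsConj (t : G) p.1 ∧ IsConj (t : G) p.2 ∧ p.1 * p.2 = g} := by
      refine ⟨fun ⟨⟨a, b⟩, ha, hb, hab⟩ => ?_⟩
      have sq : ∀ x : G, IsConj (t : G) x → x * x = 1 := by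
        intro x hx
        obtain ⟨u, rfl⟩ := isConj_iff.mp hx
        calc u * (t : G) * u⁻¹ * (u * (t : G) * u⁻¹) = u * ((t : G) * t) * u⁻¹ := by group
          _ = 1 := by rw [hsq _ t.2]; group
      have ha2 := sq a ha
      have hb2 := sq b hb
      simp only at hab
      have hinv : a * (g : G) * a⁻¹ = (g : G)⁻¹ := by
        rw [← hab, mul_inv_rev, inv_eq_of_mul_eq_one_right ha2, inv_eq_of_mul_eq_one_right hb2,
          ← mul_assoc a a b, ha2, one_mul]
      have hpow : (g : G) ^ (3 * m) = t := by rw [← hDt, ← D.pow_eq_t_of_InT hg, SubmonoidClass.coe_pow]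
      have haC : a ∈ C := by
        have h1 : a * (t : G) * a⁻¹ = t := by
          rw [← hpow, ← conj_pow, hinv, inv_pow, hpow, inv_eq_of_mul_eq_one_right (hsq _ t.2)]
        exact Subgroup.mem_centralizer_singleton_iff.mpr (mul_inv_eq_iff_eq_mul.mp h1)
      have h2 : (⟨a, haC⟩ : C) * g * (⟨a, haC⟩ : C)⁻¹ = g⁻¹ := Subtype.ext hinv
      have h3 := congrArg D.lam h2
      rw [D.lam_conj] at h3
      have h4 : D.lam g ^ 2 = 1 := by
        have h5 : D.lam g⁻¹ * D.lam g = 1 := by rw [← map_mul, inv_mul_cancel, map_one]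
        rw [← h3] at h5
        rw [pow_two, h5]
      refine hg.2 (D.lam_eq_one.mp ?_)
      have := D.lam_cube g
      rwa [pow_succ, h4, one_mul] at this
    have h := card_pairs_mul_card (t : G) (g : G)
    rw [Nat.card_of_isEmpty, Nat.cast_zero, zero_mul] at h
    refine (mul_eq_zero.mp h.symm).resolve_left (pow_ne_zero _ ?_)
    exact Nat.cast_ne_zero.mpr (by
      have : Nonempty {y : G // IsConj (t : G) y} := ⟨⟨t, IsConj.refl _⟩⟩
      exact Nat.card_pos.ne')
  have heqn : ∑ χ : IrrCharacter G,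
      (((c χ 0 + c χ 1 + c χ 2) ^ 2 * (c χ 0 - c χ 1) : ℤ) : ℂ) / (deg χ : ℂ) = 0 := by
    have e : ∀ χ : IrrCharacter G, (((c χ 0 + c χ 1 + c χ 2) ^ 2 * (c χ 0 - c χ 1) : ℤ) : ℂ) / (deg χ : ℂ) =
        (χ : G → ℂ) t ^ 2 * ((c χ 0 : ℂ) - c χ 1) / (χ : G → ℂ) 1 := by
      intro χ
      rw [hdeg χ]
      by_cases hχ : χ ∈ principalBlock M G
      · rw [hvalue χ hχ]; push_cast; rfl
      · rw [houtside χ hχ 0, houtside χ hχ 1]; simp
    have hreal : ∀ χ : IrrCharacter G, conj ((χ : G → ℂ) t) = (χ : G → ℂ) t := fun χ => by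
      obtain ⟨a, ha, -⟩ := exists_int_value_involution ht2 χ (hdeg χ)
      rw [ha, map_intCast]
    simp only [e, ← hcv, classInner]
    have e2 : ∀ χ : IrrCharacter G,
        (χ : G → ℂ) t ^ 2 * ((Nat.card C : ℂ)⁻¹ * ∑ g : C, (χ : G → ℂ) g * conj (D.f 0 g) -
          (Nat.card C : ℂ)⁻¹ * ∑ g : C, (χ : G → ℂ) g * conj (D.f 1 g)) / (χ : G → ℂ) 1 =
        (Nat.card C : ℂ)⁻¹ * ∑ g : C, (conj (D.f 0 g) - conj (D.f 1 g)) *
          ((χ : G → ℂ) t ^ 2 * (χ : G → ℂ) g / (χ : G → ℂ) 1) := by
      intro χ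
      rw [← mul_sub, ← Finset.sum_sub_distrib, Finset.mul_sum, Finset.mul_sum, Finset.mul_sum,
        Finset.sum_div]
      exact Finset.sum_congr rfl fun g _ => by ring
    refine (Finset.sum_congr rfl fun χ _ => e2 χ).trans ?_
    rw [← Finset.mul_sum, Finset.sum_comm]
    refine mul_eq_zero_of_right _ (Finset.sum_eq_zero fun g _ => ?_)
    rw [← Finset.mul_sum]
    by_cases hg : D.InT g
    · refine mul_eq_zero_of_right _ ?_
      have := congrArg conj (hpairs g hg)
      simpa [hreal, hdeg, map_sum, map_div₀] using this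
    · refine mul_eq_zero_of_left ?_ _
      rw [← map_sub]
      by_cases hk : D.t * g ∈ D.K
      · simp [Loc.f, hk]
      · simp [Loc.f, hk, hg]
  have hperf : ∀ f : G →* ℂˣ, f = 1 := by
    intro f
    rcases f.normal_ker.eq_bot_or_eq_top with h | h
    · exact absurd ⟨⟨fun a b => (MonoidHom.ker_eq_bot_iff f).mp h (by rw [map_mul, map_mul, mul_comm])⟩⟩ hG
    · exact MonoidHom.ext fun g => MonoidHom.mem_ker.mp (h ▸ Subgroup.mem_top g)
  have hdeg1 : ∀ χ : IrrCharacter G, deg χ = 1 → χ = BlocksDefect.oneIrr G := by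
    intro χ h
    obtain ⟨f, hf⟩ := CharCore.IsCharacter.exists_hom_of_degree_one
      (CharCore.IsIrrCharacter.isCharacter χ.2) (by rw [hdeg, h, Nat.cast_one])
    refine Subtype.ext (hf.trans ?_)
    rw [BlocksDefect.coe_oneIrr, hperf f]
    simp
  have hmem : ∀ χ i, c χ i ≠ 0 → χ ∈ principalBlock M G := fun χ i h =>
    by_contra fun hχ => h (houtside χ hχ i)
  have hlt : ∀ χ, χ ≠ BlocksDefect.oneIrr G → ∀ i, c χ i ≠ 0 →
      1 < (deg χ : ℤ) ∧ c χ 0 + c χ 1 + c χ 2 ≠ deg χ := by
    intro χ hne i hi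
    have h1 : 1 < deg χ := by
      rcases Nat.lt_or_ge 1 (deg χ) with h | h
      · exact h
      · exact absurd (hdeg1 χ (by have := hdeg0 χ; omega)) hne
    refine ⟨by exact_mod_cast h1, fun he => ?_⟩
    have hv : (χ : G → ℂ) t = (χ : G → ℂ) 1 := by
      rw [hvalue χ (hmem χ i hi), he, hdeg, Int.cast_natCast]
    have hchar := CharCore.IsIrrCharacter.isCharacter χ.2
    have htop : CharCore.charKernel hchar = ⊤ :=
      ((CharCore.charKernel_normal hchar).eq_bot_or_eq_top).resolve_left fun hb => by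
        have h2 : (t : G) ∈ CharCore.charKernel hchar := hv
        rw [hb, Subgroup.mem_bot] at h2
        exact ht (Subtype.ext h2)
    have hconst : ∀ g, (χ : G → ℂ) g = (deg χ : ℂ) := fun g => by
      rw [← hdeg χ]
      exact (CharCore.mem_charKernel hchar g).mp (htop ▸ Subgroup.mem_top g)
    have hn := (CharCore.isIrrCharacter_iff.mp χ.2).2
    simp only [classInner, hconst, map_natCast, Finset.sum_const, Finset.card_univ, nsmul_eq_mul,
      ← Nat.card_eq_fintype_card] at hn
    rw [← mul_assoc, inv_mul_cancel₀ (Nat.cast_ne_zero.mpr Nat.card_pos.ne'), one_mul,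
      ← Nat.cast_mul, Nat.cast_eq_one] at hn
    have := Nat.eq_one_of_mul_eq_one_right hn
    omega
  have hdvd : ∀ χ, χ ≠ BlocksDefect.oneIrr G → ∀ i, c χ i ≠ 0 →
      8 ∣ (deg χ : ℤ) + 7 * (c χ 0 + c χ 1 + c χ 2) ∧
      0 ≤ (deg χ : ℤ) + 7 * (c χ 0 + c χ 1 + c χ 2) := by
    intro χ hne i hi
    haveI := Fintype.ofFinite (P : Subgroup G)
    obtain ⟨k, hk⟩ := CharCore.IsCharacter.exists_classInner_irr_eq_natCast
      (CharCore.isCharacter_restrict (CharCore.IsIrrCharacter.isCharacter χ.2) (P : Subgroup G))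
      (BlocksDefect.oneIrr (P : Subgroup G))
    have hv := hvalue χ (hmem χ i hi)
    have hsum : ∑ s : (P : Subgroup G), (χ : G → ℂ) s =
        (deg χ : ℂ) + 7 * (χ : G → ℂ) t := by
      rw [← Finset.add_sum_erase _ _ (Finset.mem_univ (1 : (P : Subgroup G))), OneMemClass.coe_one, hdeg]
      congr 1
      rw [Finset.sum_congr rfl (g := fun _ => (χ : G → ℂ) t), Finset.sum_const,
        Finset.card_erase_of_mem (Finset.mem_univ _), Finset.card_univ, ← Nat.card_eq_fintype_card, h8]
      · simp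
      · intro s hs
        obtain ⟨u, hu⟩ := isConj_iff.mp (hconj s (Finset.mem_erase.mp hs).1)
        rw [← hu, CharCore.irr_isClassFunction χ (t : G) u]
    simp only [classInner, BlocksDefect.coe_oneIrr, map_one, mul_one, hsum, h8, hv] at hk
    have : ((deg χ : ℤ) + 7 * (c χ 0 + c χ 1 + c χ 2)) = 8 * (k : ℤ) := by
      have h2 : (((deg χ : ℤ) + 7 * (c χ 0 + c χ 1 + c χ 2) : ℤ) : ℂ) = ((8 * (k : ℤ) : ℤ) : ℂ) := by
        push_cast at hk ⊢
        linear_combination 8 * hk
      exact_mod_cast h2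
    rw [this]
    exact ⟨dvd_mul_right _ _, by positivity⟩
  refine Config.contradiction (I := IrrCharacter G)
    { c := fun i χ => c χ i
      d := fun χ => deg χ
      one := BlocksDefect.oneIrr G
      dpos := fun χ => by exact_mod_cast hdeg0 χ
      done := ?_
      gram := hgram
      cone := fun i => ?_
      deg := hdegsum
      eqn := ?_
      lt := fun χ h i hi => hlt χ h i hi
      dvd := fun χ h i hi => hdvd χ h i hi }
  · have h := hdeg (BlocksDefect.oneIrr G)
    simp only [BlocksDefect.coe_oneIrr] at h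
    have : deg (BlocksDefect.oneIrr G) = 1 := by exact_mod_cast h.symm
    simp [this]
  · have h := hcv (BlocksDefect.oneIrr G) i
    simp only [BlocksDefect.coe_oneIrr] at h
    rw [D.one_f i] at h
    split_ifs at h ⊢ <;> exact_mod_cast h.symm
  · have h2 : ((∑ χ : IrrCharacter G, (((c χ 0 + c χ 1 + c χ 2) ^ 2 * (c χ 0 - c χ 1) : ℤ) : ℚ) /
        ((deg χ : ℤ) : ℚ) : ℚ) : ℂ) = ((0 : ℚ) : ℂ) := by
      push_cast at heqn ⊢
      exact heqn
    exact_mod_cast h2

end Cfsg.Agent.InvChar68.Eight
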